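import Cfsg.Agent.Lib.Helper19.Sch.Defs

set_option autoImplicit false
set_option linter.unusedVariables false
set_option linter.unusedSectionVars false

namespace Cfsg.Agent.Lib.Helper19.Sch

open Cfsg

/-! PIECE A1 (farm Sch, helper19, row S4394), proved by helper30. -/

theorem A1_conj_pow {G : Type*} [Group G] (H : Subgroup G) (k : G)
    (hk : ∀ x ∈ H, k * x * k⁻¹ ∈ H) (m : ℕ) : ∀ x ∈ H, k ^ m * x * (k ^ m)⁻¹ ∈ H := by
  induction m with
  | zero => intro x hx; simpa using hx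
  | succ m ih =>
    intro x hx
    have := hk _ (ih x hx)
    have e : k ^ (m+1) * x * (k^(m+1))⁻¹ = k * (k^m * x * (k^m)⁻¹) * k⁻¹ := by
      rw [pow_succ']; group
    rw [e]; exact this

theorem A1_conj_inv {G : Type*} [Group G] [Finite G] (H : Subgroup G) (k : G)
    (hk : ∀ x ∈ H, k * x * k⁻¹ ∈ H) : ∀ x ∈ H, k⁻¹ * x * k ∈ H := by
  intro x hx
  have h1 := A1_conj_pow H k hk (orderOf k - 1) x hx
  have h2 : k ^ (orderOf k - 1) = k⁻¹ := by
    have hpos := orderOf_pos k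
    rw [eq_inv_iff_mul_eq_one, ← pow_succ, Nat.sub_add_cancel hpos, pow_orderOf_eq_one]
  rw [h2, inv_inv] at h1; exact h1

theorem A1 {G : Type*} [Group G] [Finite G] {p : ℕ} [Fact p.Prime] (hc : Subgroup.centralizer (pCore p G : Set G) ≤ pCore p G)
    (P : Subgroup G) (hP : IsPGroup p P) (hFP : pCore p G ≤ P) (h : SchIn p P)
    (P0 : Subgroup G) (h0 : pCore p G ≤ P0) (h1 : P0 ≤ P) (h2 : P0 ≠ pCore p G) (h3 : P0.relIndex P ≤ p)
    (k : G) (hk : ∀ x ∈ P0, k * x * k⁻¹ ∈ P0) : k ∈ Subgroup.normalizer (ZZ P : Set G) := by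
  classical
  have hFn : (pCore p G).Normal := inferInstance
  have hZF : ZZ P ≤ pCore p G := by
    intro z hz
    apply hc
    rw [Subgroup.mem_centralizer_iff]
    intro u hu
    exact (Subgroup.mem_centralizer_iff.mp hz.2) u (hFP hu)
  have key : (∀ z ∈ ZZ P, k * z * k⁻¹ ∈ ZZ P) → k ∈ Subgroup.normalizer (ZZ P : Set G) := by
    intro hA
    rw [Subgroup.mem_normalizer_iff]
    intro x
    constructor
    · exact hA x
    · intro hx
      have := A1_conj_inv (ZZ P) k hA _ hx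
      simpa [mul_assoc] using this
  apply key
  by_contra hA
  push Not at hA
  obtain ⟨z0, hz0, hy⟩ := hA
  have hyF : k * z0 * k⁻¹ ∈ pCore p G := hFn.conj_mem z0 (hZF hz0) k
  have hyP : k * z0 * k⁻¹ ∈ P := hFP hyF
  have hycomm : ∀ u ∈ P0, (k * z0 * k⁻¹) * u = u * (k * z0 * k⁻¹) := by
    intro u hu
    have hu' : k⁻¹ * u * k ∈ P0 := A1_conj_inv P0 k hk u hu
    have e := (Subgroup.mem_centralizer_iff.mp hz0.2) _ (h1 hu')
    have e2 : z0 * (k⁻¹ * u * k) = (k⁻¹ * u * k) * z0 := e.symm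
    calc (k * z0 * k⁻¹) * u = k * (z0 * (k⁻¹ * u * k)) * k⁻¹ := by group
      _ = k * ((k⁻¹ * u * k) * z0) * k⁻¹ := by rw [e2]
      _ = u * (k * z0 * k⁻¹) := by group
  have hy0 := hy
  generalize k * z0 * k⁻¹ = y at hy hyF hyP hycomm
  -- card bound
  have hcard : Nat.card (ZZ P) ≤ p := by
    refine le_trans ?_ h3
    let f : (P ⧸ P0.subgroupOf P) → ZZ P := fun q =>
      Quotient.liftOn' q (fun x : P => (⟨y * x * y⁻¹ * (x : G)⁻¹, h.comm_mem y hyP x x.2⟩ : ZZ P)) (by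
        intro a b hab
        rw [QuotientGroup.leftRel_apply, Subgroup.mem_subgroupOf] at hab
        have hu := hycomm _ hab
        simp only [Subgroup.coe_mul, Subgroup.coe_inv] at hu
        apply Subtype.ext
        simp only
        have hb : (b : G) = a * ((a : G)⁻¹ * b) := by group
        generalize (a : G)⁻¹ * (b : G) = u at hu hb
        rw [hb]
        have : y * u * y⁻¹ = u := by rw [hu]; group
        calc y * (a : G) * y⁻¹ * (a : G)⁻¹ = y * a * y⁻¹ * (u * u⁻¹) * (a : G)⁻¹ := by group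
          _ = y * a * y⁻¹ * ((y * u * y⁻¹) * u⁻¹) * (a : G)⁻¹ := by rw [this]
          _ = y * (a * u) * y⁻¹ * ((a : G) * u)⁻¹ := by group)
    have hf : Function.Surjective f := by
      intro z
      obtain ⟨x, hx, hxz⟩ := h.camina y hyP hy z z.2
      refine ⟨QuotientGroup.mk (⟨x, hx⟩ : P), ?_⟩
      apply Subtype.ext
      exact hxz
    exact Nat.card_le_card_of_surjective f hf
  -- nontrivial commutator
  obtain ⟨a, ha, b, hb, hab⟩ : ∃ a ∈ pCore p G, ∃ b ∈ P0, a * b * a⁻¹ * b⁻¹ ≠ 1 := by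
    by_contra hcon
    push Not at hcon
    apply h2
    apply le_antisymm _ h0
    intro b hb
    apply hc
    rw [Subgroup.mem_centralizer_iff]
    intro a ha
    have e := hcon a ha b hb
    calc a * b = (a * b * a⁻¹ * b⁻¹) * (b * a) := by group
      _ = b * a := by rw [e, one_mul]
  have hcZ : a * b * a⁻¹ * b⁻¹ ∈ ZZ P := h.comm_mem a (hFP ha) b (h1 hb)
  have hkc : k * (a * b * a⁻¹ * b⁻¹) * k⁻¹ ∈ ZZ P := by
    have := h.comm_mem (k * a * k⁻¹) (hFP (hFn.conj_mem a ha k)) (k * b * k⁻¹) (h1 (hk b hb))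
    have e : k * (a * b * a⁻¹ * b⁻¹) * k⁻¹ = (k * a * k⁻¹) * (k * b * k⁻¹) * (k * a * k⁻¹)⁻¹ * (k * b * k⁻¹)⁻¹ := by
      group
    rw [e]; exact this
  generalize a * b * a⁻¹ * b⁻¹ = c at hab hcZ hkc
  have hzp : Subgroup.zpowers c = ZZ P := by
    apply Subgroup.eq_of_le_of_card_ge
    · rw [Subgroup.zpowers_le]; exact hcZ
    · rw [Nat.card_zpowers]
      refine le_trans hcard ?_
      obtain ⟨j, hj⟩ := (IsPGroup.iff_orderOf.mp hP) ⟨c, hcZ.1⟩
      rw [Subgroup.orderOf_mk] at hj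
      rw [hj]
      have hj0 : j ≠ 0 := by
        rintro rfl
        rw [pow_zero, orderOf_eq_one_iff] at hj
        exact hab hj
      calc p = p ^ 1 := (pow_one p).symm
        _ ≤ p ^ j := Nat.pow_le_pow_right (Fact.out : p.Prime).pos (Nat.one_le_iff_ne_zero.mpr hj0)
  rw [← hzp] at hz0
  obtain ⟨n, rfl⟩ := Subgroup.mem_zpowers_iff.mp hz0
  apply hy0
  have e : k * c ^ n * k⁻¹ = (k * c * k⁻¹) ^ n := (conj_zpow).symm
  rw [e]
  exact (ZZ P).zpow_mem hkc n

end Cfsg.Agent.Lib.Helper19.Sch
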