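import Cfsg.Agent.Lib.Helper19.Sch.Defs
import Cfsg.Agent.Lib.Helper19.Sch.A1
import Cfsg.Agent.S1324

set_option autoImplicit false
set_option linter.unusedVariables false
set_option linter.unusedSectionVars false

namespace Cfsg.Agent.Lib.Helper19.Sch

open Cfsg

/-! PIECE A2 (farm Sch, helper19, row S4394).  PROOF SKETCH:
H := G ⧸ F (F = pCore p G), A := P.map mk', X := pPrimeCore p H.  A is elementary abelian (h.pow_mem, h.comm_mem and ZZ P ≤ C(F) ≤ F), card A = F.relIndex P ≥ p^2 (Helper63.card_map_mk'),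
p ∤ card X (Lead.card_pPrimeCore_coprime), A normalizes X (normal).  Cfsg.Agent.S1324.result: X = ⨆ B, X ⊓ C_H(B), B ≤ A, B.relIndex A ≤ p.
NZ := normalizer (ZZ P) ⊇ F.  For such B and k with mk k ∈ C_H(B): P0 := P ⊓ B.comap mk' ⊇ F, P0.map mk' = B, P0.relIndex P = B.relIndex A ≤ p, P0 ≠ F since card B ≥ p > 1;
for x ∈ P0: k x k⁻¹ x⁻¹ ∈ F ≤ P0.  A1: k ∈ NZ.  So X ⊓ C_H(B) ≤ NZ.map mk' for all B, X ≤ NZ.map mk', LL = X.comap mk' ≤ NZ ⊔ F = NZ.
-/

theorem A2_le_normalizer {G : Type*} [Group G] (P : Subgroup G) :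
    P ≤ Subgroup.normalizer (ZZ P : Set G) := by
  intro f hf
  rw [Subgroup.mem_normalizer_iff]
  intro z
  constructor
  · intro hz
    have h1 : f * z = z * f := Subgroup.mem_centralizer_iff.mp hz.2 f hf
    have h2 : f * z * f⁻¹ = z := by rw [h1]; group
    rw [h2]; exact hz
  · intro hz
    have h1 : f⁻¹ * (f * z * f⁻¹) = (f * z * f⁻¹) * f⁻¹ :=
      Subgroup.mem_centralizer_iff.mp hz.2 f⁻¹ (P.inv_mem hf)
    have h2 : f * z * f⁻¹ = z := by
      have : z * f⁻¹ = f * z * f⁻¹ * f⁻¹ := by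
        rw [← h1]; group
      have h3 := mul_right_cancel this
      exact h3.symm
    rw [h2] at hz; exact hz

theorem A2 {G : Type*} [Group G] [Finite G] {p : ℕ} [Fact p.Prime] (hc : Subgroup.centralizer (pCore p G : Set G) ≤ pCore p G)
    (P : Subgroup G) (hP : IsPGroup p P) (hFP : pCore p G ≤ P) (h : SchIn p P)
    (hidx : p ^ 2 ≤ (pCore p G).relIndex P) : LL p G ≤ Subgroup.normalizer (ZZ P : Set G) := by
  have hp : p.Prime := Fact.out
  set F : Subgroup G := pCore p G with hF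
  set π : G →* G ⧸ F := QuotientGroup.mk' F with hπ
  have hπ1 : ∀ x : G, π x = 1 ↔ x ∈ F := fun x => QuotientGroup.eq_one_iff x
  have hZF : ZZ P ≤ F := by
    intro z hz
    apply hc
    exact Subgroup.centralizer_le (by exact_mod_cast hFP) hz.2
  set A : Subgroup (G ⧸ F) := P.map π with hA
  set X : Subgroup (G ⧸ F) := pPrimeCore p (G ⧸ F) with hX
  have hAel : Cfsg.IsElementaryAbelian p A := by
    refine ⟨⟨⟨?_⟩⟩, ?_⟩
    · rintro ⟨a, x, hx, rfl⟩ ⟨b, y, hy, rfl⟩
      apply Subtype.ext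
      show π x * π y = π y * π x
      have h1 : π (x * y * x⁻¹ * y⁻¹) = 1 := (hπ1 _).mpr (hZF (h.comm_mem x hx y hy))
      rw [map_mul, map_mul, map_mul, map_inv, map_inv] at h1
      have h2 : π x * π y = (π x * π y * (π x)⁻¹ * (π y)⁻¹) * (π y * π x) := by group
      rw [h2, h1, one_mul]
    · rintro a ⟨x, hx, rfl⟩
      rw [← map_pow]
      exact (hπ1 _).mpr (hZF (h.pow_mem x hx))
  have hAcard : Nat.card A = F.relIndex P := by
    rw [hA, ← Subgroup.relIndex_ker, hπ, QuotientGroup.ker_mk']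
  have hA2 : p ^ 2 ≤ Nat.card A := by rw [hAcard]; exact hidx
  have hXc : ¬ p ∣ Nat.card X := by
    have h1 : (Nat.card X).Coprime p := Cfsg.Agent.Lib.Lead.card_pPrimeCore_coprime p
    intro h2
    have h3 : p ∣ Nat.gcd (Nat.card X) p := Nat.dvd_gcd h2 dvd_rfl
    rw [h1] at h3
    exact hp.one_lt.ne' (Nat.dvd_one.mp h3)
  have hAX : A ≤ Subgroup.normalizer (X : Set (G ⧸ F)) := by
    rw [Subgroup.normalizer_eq_top]; exact le_top
  have key := Cfsg.Agent.S1324.result p A X hAel hA2 hXc hAX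
  set NZ : Subgroup G := Subgroup.normalizer (ZZ P : Set G) with hNZ
  have hFNZ : F ≤ NZ := hFP.trans (A2_le_normalizer P)
  have hXle : X ≤ NZ.map π := by
    rw [key]
    apply iSup_le
    rintro ⟨B, hBA, hBi⟩
    intro hh hhm
    obtain ⟨hhX, hhC⟩ := hhm
    obtain ⟨k, rfl⟩ := QuotientGroup.mk'_surjective F hh
    refine ⟨k, ?_, rfl⟩
    have hF0 : F ≤ P ⊓ B.comap π := by
      intro f hf
      refine ⟨hFP hf, ?_⟩
      show π f ∈ B
      rw [(hπ1 f).mpr hf]; exact B.one_mem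
    refine A1 hc P hP hFP h (P ⊓ B.comap π) hF0 inf_le_left ?_ ?_ k ?_
    · intro hEq
      have hB : B = ⊥ := by
        rw [eq_bot_iff]
        intro b hb
        obtain ⟨x, hx, rfl⟩ := hBA hb
        have : x ∈ P ⊓ B.comap π := ⟨hx, hb⟩
        rw [hEq] at this
        exact (hπ1 x).mpr this
      rw [hB, Subgroup.relIndex_bot_left] at hBi
      have : p ^ 2 ≤ p := hA2.trans hBi
      have h2 : p < p ^ 2 := by nlinarith [hp.one_lt]
      omega
    · rw [Subgroup.inf_relIndex_left, Subgroup.relIndex_comap]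
      exact hBi
    · intro x hx
      have hxB : π x ∈ B := hx.2
      have h1 : π x * π k = π k * π x := Subgroup.mem_centralizer_iff.mp hhC (π x) hxB
      have h2 : π (k * x * k⁻¹ * x⁻¹) = 1 := by
        rw [map_mul, map_mul, map_mul, map_inv, map_inv, ← h1]; group
      have h3 : k * x * k⁻¹ * x⁻¹ ∈ P ⊓ B.comap π := hF0 ((hπ1 _).mp h2)
      have h4 := (P ⊓ B.comap π).mul_mem h3 hx
      have h5 : k * x * k⁻¹ * x⁻¹ * x = k * x * k⁻¹ := by group
      rwa [h5] at h4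
  intro g hg
  have hg' : π g ∈ X := hg
  obtain ⟨n, hn, hne⟩ := hXle hg'
  have h1 : π (n⁻¹ * g) = 1 := by rw [map_mul, map_inv, hne]; group
  have h2 : n⁻¹ * g ∈ NZ := hFNZ ((hπ1 _).mp h1)
  have h3 := NZ.mul_mem hn h2
  have h4 : n * (n⁻¹ * g) = g := by group
  rwa [h4] at h3

end Cfsg.Agent.Lib.Helper19.Sch
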