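import Cfsg.Agent.Lib.Helper19.Sch.Defs

set_option autoImplicit false
set_option linter.unusedVariables false
set_option linter.unusedSectionVars false

namespace Cfsg.Agent.Lib.Helper19.Sch

open Cfsg

theorem B0 {G : Type*} [Group G] (p : ℕ) (F : Subgroup G) [hF : F.Normal] : (DD p F).Normal := by
  constructor
  intro n hn g
  unfold DD at hn ⊢
  induction hn using Subgroup.closure_induction with
  | mem x hx =>
    apply Subgroup.subset_closure
    rcases hx with ⟨y, hy, rfl⟩ | ⟨y, hy, y', hy', rfl⟩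
    · left
      refine ⟨g * y * g⁻¹, hF.conj_mem y hy g, ?_⟩
      rw [conj_pow]
    · right
      refine ⟨g * y * g⁻¹, hF.conj_mem y hy g, g * y' * g⁻¹, hF.conj_mem y' hy' g, ?_⟩
      group
  | one => simp
  | mul x y _ _ hx hy =>
    have : g * (x * y) * g⁻¹ = (g * x * g⁻¹) * (g * y * g⁻¹) := by group
    rw [this]
    exact Subgroup.mul_mem _ hx hy
  | inv x _ hx =>
    have : g * x⁻¹ * g⁻¹ = (g * x * g⁻¹)⁻¹ := by group
    rw [this]
    exact Subgroup.inv_mem _ hx

theorem B0' {G : Type*} [Group G] (p : ℕ) (P F : Subgroup G) (hFP : F ≤ P) (h : SchIn p P) : DD p F ≤ ZZ P := by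
  unfold DD
  rw [Subgroup.closure_le]
  rintro _ (⟨y, hy, rfl⟩ | ⟨y, hy, y', hy', rfl⟩)
  · exact h.pow_mem y (hFP hy)
  · exact h.comm_mem y (hFP hy) y' (hFP hy')

end Cfsg.Agent.Lib.Helper19.Sch
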