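import Cfsg.Agent.Lib.Helper19.Sch.Defs
import Cfsg.Agent.Lib.Helper19.Sch.B0

set_option autoImplicit false
set_option linter.unusedVariables false
set_option linter.unusedSectionVars false

namespace Cfsg.Agent.Lib.Helper19.Sch

open Cfsg

/-! PIECE B1 (farm Sch, helper19, row S4394), proved by helper30. -/

theorem B1 {G : Type*} [Group G] [Finite G] {p : ℕ} [Fact p.Prime] (P F : Subgroup G) (hP : IsPGroup p P) (hFP : F ≤ P) (h : SchIn p P)
    (hZF : ZZ P ≤ F) (hidx : F.relIndex P = p) (hD : DD p F ≠ ZZ P) : (ZZ P).relIndex P = p ^ 2 := by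
  classical
  have hp : p.Prime := Fact.out
  have hDZ : DD p F ≤ ZZ P := B0' p P F hFP h
  have hcomm : ∀ a ∈ P, ∀ b ∈ P, ∀ g ∈ P, g * (a * b * a⁻¹ * b⁻¹) = (a * b * a⁻¹ * b⁻¹) * g :=
    fun a ha b hb g hg => (Subgroup.mem_centralizer_iff.mp (h.comm_mem a ha b hb).2) g hg
  have hmulr : ∀ u ∈ P, ∀ x ∈ P, ∀ x' ∈ P,
      u * (x * x') * u⁻¹ * (x * x')⁻¹ = (u * x * u⁻¹ * x⁻¹) * (u * x' * u⁻¹ * x'⁻¹) := by
    intro u hu x hx x' hx'
    calc u * (x * x') * u⁻¹ * (x * x')⁻¹ = (u * x * u⁻¹) * ((u * x' * u⁻¹ * x'⁻¹) * x⁻¹) := by group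
      _ = (u * x * u⁻¹) * (x⁻¹ * (u * x' * u⁻¹ * x'⁻¹)) := by rw [hcomm u hu x' hx' x⁻¹ (inv_mem hx)]
      _ = _ := by group
  have hmull : ∀ u ∈ P, ∀ u' ∈ P, ∀ x ∈ P,
      (u * u') * x * (u * u')⁻¹ * x⁻¹ = (u * x * u⁻¹ * x⁻¹) * (u' * x * u'⁻¹ * x⁻¹) := by
    intro u hu u' hu' x hx
    calc (u * u') * x * (u * u')⁻¹ * x⁻¹ = (u * (u' * x * u'⁻¹ * x⁻¹)) * (x * u⁻¹ * x⁻¹) := by group
      _ = ((u' * x * u'⁻¹ * x⁻¹) * u) * (x * u⁻¹ * x⁻¹) := by rw [hcomm u' hu' x hx u hu]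
      _ = (u' * x * u'⁻¹ * x⁻¹) * (u * x * u⁻¹ * x⁻¹) := by group
      _ = _ := by rw [hcomm u hu x hx (u' * x * u'⁻¹ * x⁻¹) (h.comm_mem u' hu' x hx).1]
  have hinvl : ∀ u ∈ P, ∀ x ∈ P, u⁻¹ * x * u⁻¹⁻¹ * x⁻¹ = (u * x * u⁻¹ * x⁻¹)⁻¹ := by
    intro u hu x hx
    have e := hmull u hu u⁻¹ (inv_mem hu) x hx
    rw [mul_inv_cancel] at e
    have e1 : (1 : G) * x * 1⁻¹ * x⁻¹ = 1 := by group
    rw [e1] at e
    exact (inv_eq_of_mul_eq_one_right e.symm).symm
  have hinvr : ∀ u ∈ P, ∀ x ∈ P, u * x⁻¹ * u⁻¹ * x⁻¹⁻¹ = (u * x * u⁻¹ * x⁻¹)⁻¹ := by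
    intro u hu x hx
    have e := hmulr u hu x hx x⁻¹ (inv_mem hx)
    rw [mul_inv_cancel] at e
    have e1 : u * (1 : G) * u⁻¹ * 1⁻¹ = 1 := by group
    rw [e1] at e
    exact (inv_eq_of_mul_eq_one_right e.symm).symm
  have hmax : ∀ K : Subgroup G, F ≤ K → K ≤ P → (∃ x ∈ K, x ∉ F) → P ≤ K := by
    intro K hFK hKP ⟨x, hxK, hxF⟩
    have e := Subgroup.relIndex_mul_relIndex F K P hFK hKP
    rw [hidx] at e
    rcases (Nat.dvd_prime hp).mp ⟨_, e.symm⟩ with h1 | h1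
    · exact absurd (Subgroup.relIndex_eq_one.mp h1 hxK) hxF
    · rw [h1] at e
      have : K.relIndex P = 1 := by
        have := Nat.eq_of_mul_eq_mul_left hp.pos (e.trans (mul_one p).symm)
        exact this
      exact Subgroup.relIndex_eq_one.mp this
  obtain ⟨x, hxP, hxF⟩ : ∃ x ∈ P, x ∉ F := by
    have : ¬ P ≤ F := by
      intro hle
      have := Subgroup.relIndex_eq_one.mpr hle
      rw [hidx] at this
      exact hp.one_lt.ne' this
    exact SetLike.not_le_iff_exists.mp this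
  have hDmem : ∀ y ∈ F, ∀ f ∈ F, y * f * y⁻¹ * f⁻¹ ∈ DD p F := fun y hy f hf =>
    Subgroup.subset_closure (Or.inr ⟨y, hy, f, hf, rfl⟩)
  -- (1)
  have step1 : ∀ y ∈ F, y * x * y⁻¹ * x⁻¹ ∈ DD p F → y ∈ ZZ P := by
    intro y hy hyx
    by_contra hyZ
    let K : Subgroup G :=
      { carrier := {g | g ∈ P ∧ y * g * y⁻¹ * g⁻¹ ∈ DD p F}
        one_mem' := by
          refine ⟨one_mem _, ?_⟩
          have e1 : y * (1 : G) * y⁻¹ * 1⁻¹ = 1 := by group
          rw [e1]; exact one_mem _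
        mul_mem' := by
          rintro a b ⟨ha, ha'⟩ ⟨hb, hb'⟩
          refine ⟨mul_mem ha hb, ?_⟩
          rw [hmulr y (hFP hy) a ha b hb]
          exact mul_mem ha' hb'
        inv_mem' := by
          rintro a ⟨ha, ha'⟩
          refine ⟨inv_mem ha, ?_⟩
          rw [hinvr y (hFP hy) a ha]
          exact inv_mem ha' }
    have hK : P ≤ K := hmax K (fun f hf => ⟨hFP hf, hDmem y hy f hf⟩) (fun g hg => hg.1)
      ⟨x, ⟨hxP, hyx⟩, hxF⟩
    apply hD
    apply le_antisymm hDZ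
    intro z hz
    obtain ⟨g, hg, rfl⟩ := h.camina y (hFP hy) hyZ z hz
    exact (hK hg).2
  -- (2)
  obtain ⟨y1, hy1F, hy1Z⟩ : ∃ y ∈ F, y ∉ ZZ P := by
    by_contra hcon
    push Not at hcon
    apply hxF
    apply hZF
    refine Subgroup.mem_inf.mpr ⟨hxP, ?_⟩
    have hxx : x ∈ Subgroup.centralizer ({x} : Set G) := by
      rw [Subgroup.mem_centralizer_singleton_iff]
    have hK : P ≤ P ⊓ Subgroup.centralizer {x} := by
      apply hmax _ _ inf_le_left ⟨x, Subgroup.mem_inf.mpr ⟨hxP, hxx⟩, hxF⟩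
      intro f hf
      refine Subgroup.mem_inf.mpr ⟨hFP hf, ?_⟩
      rw [Subgroup.mem_centralizer_singleton_iff]
      exact ((Subgroup.mem_centralizer_iff.mp (Subgroup.mem_inf.mp (hcon f hf)).2) x hxP).symm
    rw [Subgroup.mem_centralizer_iff]
    intro g hg
    have := (Subgroup.mem_inf.mp (hK hg)).2
    rw [Subgroup.mem_centralizer_singleton_iff] at this
    exact this
  -- count
  have hle : (ZZ P).relIndex F ≤ p := by
    have hch : ∀ y : F, ∃ g : P, y1 * (g : G) * y1⁻¹ * (g : G)⁻¹ = (y : G) * x * (y : G)⁻¹ * x⁻¹ := by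
      intro y
      obtain ⟨g, hg, e⟩ := h.camina y1 (hFP hy1F) hy1Z _ (h.comm_mem y (hFP y.2) x hxP)
      exact ⟨⟨g, hg⟩, e⟩
    choose gg hgg using hch
    let s : (F ⧸ (ZZ P).subgroupOf F) → (P ⧸ F.subgroupOf P) := fun q => QuotientGroup.mk (gg q.out)
    have hs : Function.Injective s := by
      intro q q' hqq
      have e1 : (gg q.out)⁻¹ * gg q'.out ∈ F.subgroupOf P := QuotientGroup.eq.mp hqq
      rw [Subgroup.mem_subgroupOf] at e1
      simp only [Subgroup.coe_mul, Subgroup.coe_inv] at e1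
      have e2 := hgg q.out
      have e3 := hgg q'.out
      rw [← q.out_eq', ← q'.out_eq']
      apply QuotientGroup.eq.mpr
      rw [Subgroup.mem_subgroupOf]
      simp only [Subgroup.coe_mul, Subgroup.coe_inv]
      generalize q.out = y at *
      generalize q'.out = y' at *
      apply step1 _ (mul_mem (inv_mem y.2) y'.2)
      rw [hmull _ (inv_mem (hFP y.2)) _ (hFP y'.2) x hxP, hinvl _ (hFP y.2) x hxP, ← e2, ← e3]
      have e4 : ((gg y' : P) : G) = (gg y : G) * ((gg y : G)⁻¹ * (gg y' : G)) := by group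
      have e5 := hmulr y1 (hFP hy1F) (gg y : G) (gg y).2 _ (hFP e1)
      rw [← e4] at e5
      rw [e5, inv_mul_cancel_left]
      exact hDmem y1 hy1F _ e1
    have := Nat.card_le_card_of_injective s hs
    calc (ZZ P).relIndex F ≤ F.relIndex P := this
      _ = p := hidx
  have hne1 : (ZZ P).relIndex F ≠ 1 := by
    intro e
    exact hy1Z (Subgroup.relIndex_eq_one.mp e hy1F)
  have heq : (ZZ P).relIndex F = p := by
    obtain ⟨n, hn⟩ := (hP.to_le hFP).index ((ZZ P).subgroupOf F)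
    have hn' : (ZZ P).relIndex F = p ^ n := hn
    rw [hn'] at hle hne1 ⊢
    rcases n with _ | _ | n
    · exact absurd (pow_zero p) hne1
    · exact pow_one p
    · exfalso
      have : p ^ 1 < p ^ (n + 1 + 1) := Nat.pow_lt_pow_right hp.one_lt (by omega)
      rw [pow_one] at this
      omega
  rw [← Subgroup.relIndex_mul_relIndex (ZZ P) F P hZF hFP, heq, hidx, sq]

end Cfsg.Agent.Lib.Helper19.Sch
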