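import Cfsg.Agent.Lib.Helper19.Sch.Defs

set_option autoImplicit false
set_option linter.unusedVariables false
set_option linter.unusedSectionVars false

namespace Cfsg.Agent.Lib.Helper19.Sch

open Cfsg

/-! PIECE B3 (farm Sch, helper19, row S4394), proved by helper7.
The automorphism induces `f` on `P ⧸ Z`; no nontrivial `v` has `f v ∈ zpowers v`; counting fixed points gives `q = 2`;
then `v * f v` is fixed. -/

/-- the map induced on `P ⧸ Z(P)` by an automorphism -/
noncomputable def B3_f {P : Type*} [Group P] (α : MulAut P) :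
    (P ⧸ Subgroup.center P) →* (P ⧸ Subgroup.center P) :=
  QuotientGroup.map (Subgroup.center P) (Subgroup.center P) α.toMonoidHom (by
    intro z hz
    rw [Subgroup.mem_comap, Subgroup.mem_center_iff]
    intro g
    have h1 := Subgroup.mem_center_iff.mp hz (α.symm g)
    have h2 := congrArg α h1
    simpa using h2)

theorem B3_f_mk {P : Type*} [Group P] (α : MulAut P) (x : P) :
    B3_f α (QuotientGroup.mk x) = QuotientGroup.mk (α x) := rfl

theorem B3_f_iter {P : Type*} [Group P] (α : MulAut P) (n : ℕ) (x : P) :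
    (B3_f α)^[n] (QuotientGroup.mk x) = QuotientGroup.mk ((α ^ n) x) := by
  induction n with
  | zero => simp
  | succ n ih =>
    rw [Function.iterate_succ_apply', ih, B3_f_mk, pow_succ', MulAut.mul_apply]

/-- no nontrivial cyclic subgroup of `P ⧸ Z` is invariant, provided the index exceeds `p` -/
theorem B3_noline {P : Type*} [Group P] [Finite P] {p : ℕ} (hpow : ∀ x : P, x ^ p ∈ Subgroup.center P)
    (hp0 : 0 < p) (hidx : p < (Subgroup.center P).index) (α : MulAut P)
    (hinv : ∀ M : Subgroup P, Subgroup.center P ≤ M → (∀ x ∈ M, α x ∈ M) →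
      M = Subgroup.center P ∨ M = ⊤)
    (v : P ⧸ Subgroup.center P) (hv : v ≠ 1) : B3_f α v ∉ Subgroup.zpowers v := by
  intro hmem
  obtain ⟨u, rfl⟩ := QuotientGroup.mk_surjective v
  set M : Subgroup P := (Subgroup.zpowers (QuotientGroup.mk u : P ⧸ Subgroup.center P)).comap
    (QuotientGroup.mk' (Subgroup.center P)) with hM
  have hZM : Subgroup.center P ≤ M := by
    intro z hz
    rw [hM, Subgroup.mem_comap]
    have : (QuotientGroup.mk' (Subgroup.center P)) z = 1 := (QuotientGroup.eq_one_iff z).mpr hz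
    rw [this]
    exact Subgroup.one_mem _
  have hMinv : ∀ x ∈ M, α x ∈ M := by
    intro x hx
    rw [hM, Subgroup.mem_comap] at hx ⊢
    obtain ⟨j, hj⟩ := Subgroup.mem_zpowers_iff.mp hx
    have h1 : (QuotientGroup.mk' (Subgroup.center P)) (α x) =
        B3_f α ((QuotientGroup.mk' (Subgroup.center P)) x) := rfl
    rw [h1, ← hj, map_zpow]
    exact Subgroup.zpow_mem _ hmem j
  have huM : u ∈ M := by
    rw [hM, Subgroup.mem_comap]
    exact Subgroup.mem_zpowers _
  rcases hinv M hZM hMinv with h | h
  · apply hv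
    rw [h] at huM
    exact (QuotientGroup.eq_one_iff u).mpr huM
  · have htop : Subgroup.zpowers (QuotientGroup.mk u : P ⧸ Subgroup.center P) = ⊤ := by
      rw [eq_top_iff]
      intro w _
      obtain ⟨x, rfl⟩ := QuotientGroup.mk_surjective w
      have : x ∈ M := by rw [h]; exact Subgroup.mem_top x
      rw [hM, Subgroup.mem_comap] at this
      exact this
    have hcard : Nat.card (Subgroup.zpowers (QuotientGroup.mk u : P ⧸ Subgroup.center P)) =
        (Subgroup.center P).index := by
      rw [htop, Subgroup.card_top]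
      rfl
    rw [Nat.card_zpowers] at hcard
    have hup : (QuotientGroup.mk u : P ⧸ Subgroup.center P) ^ p = 1 := by
      rw [← QuotientGroup.mk_pow]
      exact (QuotientGroup.eq_one_iff _).mpr (hpow u)
    have hle : orderOf (QuotientGroup.mk u : P ⧸ Subgroup.center P) ≤ p :=
      Nat.le_of_dvd hp0 (orderOf_dvd_of_pow_eq_one hup)
    omega

theorem B3_comm {P : Type*} [Group P]
    (hc : ∀ x y : P, x * y * x⁻¹ * y⁻¹ ∈ Subgroup.center P) (a b : P ⧸ Subgroup.center P) :
    a * b = b * a := by
  obtain ⟨x, rfl⟩ := QuotientGroup.mk_surjective a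
  obtain ⟨y, rfl⟩ := QuotientGroup.mk_surjective b
  have h1 : (QuotientGroup.mk (x * y * x⁻¹ * y⁻¹) : P ⧸ Subgroup.center P) = 1 :=
    (QuotientGroup.eq_one_iff _).mpr (hc x y)
  rw [QuotientGroup.mk_mul, QuotientGroup.mk_mul, QuotientGroup.mk_mul, QuotientGroup.mk_inv,
    QuotientGroup.mk_inv] at h1
  calc (QuotientGroup.mk x : P ⧸ Subgroup.center P) * QuotientGroup.mk y
      = ((QuotientGroup.mk x : P ⧸ Subgroup.center P) * QuotientGroup.mk y *
          (QuotientGroup.mk x)⁻¹ * (QuotientGroup.mk y)⁻¹) * (QuotientGroup.mk y * QuotientGroup.mk x) := by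
        group
    _ = QuotientGroup.mk y * QuotientGroup.mk x := by rw [h1, one_mul]

theorem B3 {P : Type*} [Group P] [Finite P] (h : IsSch 3 P) (hidx : (Subgroup.center P).index = 9) : False := by
  classical
  obtain ⟨q, α, hq, hq3, hαq, hfix, hinv⟩ := h.aut
  have hnl := B3_noline (p := 3) h.pow_mem (by norm_num) (by rw [hidx]; norm_num) α hinv
  haveI : Fact q.Prime := ⟨hq⟩
  haveI : Fintype (P ⧸ Subgroup.center P) := Fintype.ofFinite _
  have hcardQ : Fintype.card (P ⧸ Subgroup.center P) = 9 := by
    rw [← Nat.card_eq_fintype_card]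
    exact hidx
  let f : Function.End (P ⧸ Subgroup.center P) := fun v => B3_f α v
  have hiter : ∀ (n : ℕ) (v : P ⧸ Subgroup.center P), (f ^ n) v = (B3_f α)^[n] v := by
    intro n
    induction n with
    | zero => intro v; rfl
    | succ n ih =>
      intro v
      rw [pow_succ', Function.iterate_succ_apply']
      show f ((f ^ n) v) = _
      rw [ih]
  have hfq : f ^ q ^ 1 = 1 := by
    funext v
    obtain ⟨x, rfl⟩ := QuotientGroup.mk_surjective v
    rw [pow_one, hiter, B3_f_iter, hαq]
    rfl
  have hmod := Equiv.Perm.card_fixedPoints_modEq hfq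
  have hfp : Fintype.card (Function.fixedPoints f) = 1 := by
    rw [Fintype.card_eq_one_iff]
    refine ⟨⟨1, map_one (B3_f α)⟩, ?_⟩
    rintro ⟨v, hv⟩
    apply Subtype.ext
    by_contra hne
    apply hnl v hne
    have : B3_f α v = v := hv
    rw [this]
    exact Subgroup.mem_zpowers v
  rw [hcardQ, hfp] at hmod
  have hdvd : q ∣ 8 := by
    have := (Nat.modEq_iff_dvd' (by norm_num : 1 ≤ 9)).mp hmod.symm
    simpa using this
  have hq2 : q = 2 := by
    have h8 : (8 : ℕ) = 2 ^ 3 := by norm_num
    rw [h8] at hdvd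
    exact (Nat.prime_dvd_prime_iff_eq hq Nat.prime_two).mp (hq.dvd_of_dvd_pow hdvd)
  subst hq2
  have hff : ∀ v : P ⧸ Subgroup.center P, B3_f α (B3_f α v) = v := by
    intro v
    have := congrFun hfq v
    rw [pow_one, hiter] at this
    exact this
  obtain ⟨v, hv⟩ : ∃ v : P ⧸ Subgroup.center P, v ≠ 1 := by
    by_contra hcon
    push_neg at hcon
    have : Fintype.card (P ⧸ Subgroup.center P) ≤ 1 :=
      Fintype.card_le_one_iff.mpr fun a b => by rw [hcon a, hcon b]
    omega
  by_cases hw : v * B3_f α v = 1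
  · apply hnl v hv
    have : B3_f α v = v⁻¹ := (inv_eq_of_mul_eq_one_right hw).symm
    rw [this]
    exact Subgroup.inv_mem _ (Subgroup.mem_zpowers v)
  · apply hnl _ hw
    have : B3_f α (v * B3_f α v) = v * B3_f α v := by
      rw [map_mul, hff, B3_comm h.comm_mem]
    rw [this]
    exact Subgroup.mem_zpowers _

end Cfsg.Agent.Lib.Helper19.Sch
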