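import Cfsg.Agent.Lib.Helper19.Sch.Defs
import Cfsg.Agent.Lib.Helper19.Sch.B3

set_option autoImplicit false
set_option linter.unusedVariables false
set_option linter.unusedSectionVars false

namespace Cfsg.Agent.Lib.Helper19.Sch

open Cfsg

/-! PIECE B2 (farm Sch, helper19, row S4394), proved by helper7.
With `f` induced by the automorphism on `P ⧸ Z` (order 4) and `v = uZ`, `u ∈ M`, `u ∉ Z`: the four cosets are `1, v, f v, f (f v)`;
so every square lies in `D`; commutators are products of squares; the Camina property gives `Z ≤ D`. -/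

theorem B2 {P : Type*} [Group P] [Finite P] (h : IsSch 2 P) (hidx : (Subgroup.center P).index = 4)
    (M D : Subgroup P) (hM1 : Subgroup.center P ≤ M) (hM2 : M ≠ Subgroup.center P)
    (hD : D ≤ Subgroup.center P) (hsq : ∀ y ∈ M, y ^ 2 ∈ D) : D = Subgroup.center P := by
  classical
  obtain ⟨q, α, hq, hq3, hαq, hfix, hinv⟩ := h.aut
  have hnl := B3_noline (p := 2) h.pow_mem (by norm_num) (by rw [hidx]; norm_num) α hinv
  haveI : Fintype (P ⧸ Subgroup.center P) := Fintype.ofFinite _
  have hcardQ : Fintype.card (P ⧸ Subgroup.center P) = 4 := by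
    rw [← Nat.card_eq_fintype_card]
    exact hidx
  obtain ⟨u, huM, huZ⟩ : ∃ u ∈ M, u ∉ Subgroup.center P := by
    by_contra hcon
    push_neg at hcon
    exact hM2 (le_antisymm hcon hM1)
  set v : P ⧸ Subgroup.center P := QuotientGroup.mk u with hv
  have hv1 : v ≠ 1 := fun h1 => huZ ((QuotientGroup.eq_one_iff u).mp h1)
  set a := B3_f α v with ha
  set b := B3_f α a with hb
  have ha1 : a ≠ 1 := fun h1 => hnl v hv1 (by rw [← ha, h1]; exact Subgroup.one_mem _)
  have hav : a ≠ v := fun h1 => hnl v hv1 (by rw [← ha, h1]; exact Subgroup.mem_zpowers _)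
  have hb1 : b ≠ 1 := fun h1 => hnl a ha1 (by rw [← hb, h1]; exact Subgroup.one_mem _)
  have hba : b ≠ a := fun h1 => hnl a ha1 (by rw [← hb, h1]; exact Subgroup.mem_zpowers _)
  have hbv : b ≠ v := by
    intro h1
    have hw : v * a ≠ 1 := by
      intro h2
      apply hnl v hv1
      have : a = v⁻¹ := (inv_eq_of_mul_eq_one_right h2).symm
      rw [← ha, this]
      exact Subgroup.inv_mem _ (Subgroup.mem_zpowers v)
    apply hnl _ hw
    have : B3_f α (v * a) = v * a := by
      rw [map_mul, ← ha, ← hb, h1, B3_comm h.comm_mem]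
    rw [this]
    exact Subgroup.mem_zpowers _
  have hall : ∀ w : P ⧸ Subgroup.center P, w = 1 ∨ w = v ∨ w = a ∨ w = b := by
    have hcard : ({1, v, a, b} : Finset (P ⧸ Subgroup.center P)).card = 4 := by
      rw [Finset.card_insert_of_notMem, Finset.card_insert_of_notMem,
        Finset.card_insert_of_notMem, Finset.card_singleton]
      · simp only [Finset.mem_singleton]
        exact fun h1 => hba h1.symm
      · simp only [Finset.mem_insert, Finset.mem_singleton, not_or]
        exact ⟨fun h1 => hav h1.symm, fun h1 => hbv h1.symm⟩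
      · simp only [Finset.mem_insert, Finset.mem_singleton, not_or]
        exact ⟨fun h1 => hv1 h1.symm, fun h1 => ha1 h1.symm, fun h1 => hb1 h1.symm⟩
    have heq : ({1, v, a, b} : Finset (P ⧸ Subgroup.center P)) = Finset.univ :=
      Finset.eq_univ_of_card _ (by rw [hcard, hcardQ])
    intro w
    have : w ∈ ({1, v, a, b} : Finset (P ⧸ Subgroup.center P)) := by
      rw [heq]; exact Finset.mem_univ w
    simpa using this
  have hα : ∀ y : P, y ^ 2 ∈ D → (α y) ^ 2 ∈ D := by
    intro y hy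
    have : (α y) ^ 2 = y ^ 2 := by
      rw [← map_pow]
      exact hfix _ (hD hy)
    rw [this]
    exact hy
  have hcoset : ∀ u' : P, u' ^ 2 ∈ D → ∀ x : P,
      (QuotientGroup.mk x : P ⧸ Subgroup.center P) = QuotientGroup.mk u' → x ^ 2 ∈ D := by
    intro u' hu' x hx
    have hz : u'⁻¹ * x ∈ Subgroup.center P := QuotientGroup.eq.mp hx.symm
    have hzc := Subgroup.mem_center_iff.mp hz
    have hx2 : x ^ 2 = u' ^ 2 * (u'⁻¹ * x) ^ 2 := by
      have h1 : x = u' * (u'⁻¹ * x) := by group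
      have h2 : u' * (u'⁻¹ * x) * (u' * (u'⁻¹ * x)) = u' * u' * ((u'⁻¹ * x) * (u'⁻¹ * x)) := by
        calc u' * (u'⁻¹ * x) * (u' * (u'⁻¹ * x)) = u' * ((u'⁻¹ * x) * u') * (u'⁻¹ * x) := by group
          _ = u' * (u' * (u'⁻¹ * x)) * (u'⁻¹ * x) := by rw [← hzc u']
          _ = u' * u' * ((u'⁻¹ * x) * (u'⁻¹ * x)) := by group
      calc x ^ 2 = x * x := pow_two x
        _ = u' * (u'⁻¹ * x) * (u' * (u'⁻¹ * x)) := by rw [← h1]
        _ = u' * u' * ((u'⁻¹ * x) * (u'⁻¹ * x)) := h2
        _ = u' ^ 2 * (u'⁻¹ * x) ^ 2 := by rw [pow_two, pow_two]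
    rw [hx2]
    exact D.mul_mem hu' (hsq _ (hM1 hz))
  have hallsq : ∀ x : P, x ^ 2 ∈ D := by
    intro x
    rcases hall (QuotientGroup.mk x) with h1 | h1 | h1 | h1
    · exact hsq x (hM1 ((QuotientGroup.eq_one_iff x).mp h1))
    · exact hcoset u (hsq u huM) x h1
    · exact hcoset (α u) (hα u (hsq u huM)) x h1
    · exact hcoset (α (α u)) (hα _ (hα u (hsq u huM))) x h1
  apply le_antisymm hD
  intro z hz
  obtain ⟨x, hx⟩ := h.camina u huZ z hz
  have hid : u * x * u⁻¹ * x⁻¹ = u ^ 2 * (u⁻¹ * x) ^ 2 * (x⁻¹) ^ 2 := by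
    rw [pow_two, pow_two, pow_two]
    group
  rw [← hx, hid]
  exact D.mul_mem (D.mul_mem (hallsq _) (hallsq _)) (hallsq _)

end Cfsg.Agent.Lib.Helper19.Sch
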