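import Mathlib
import Cfsg.Prelude.Def_SolvableStructure
import Cfsg.Prelude.Def_Local
import Cfsg.Agent.Lib.Lead.Cores

set_option autoImplicit false

/-! helper19: vocabulary for row S4394 (Sylow subgroups of Schmidt type force p-length one). -/

namespace Cfsg.Agent.Lib.Helper19.Sch

/-- the centre of the subgroup `P`, as a subgroup of `G` -/
def ZZ {G : Type*} [Group G] (P : Subgroup G) : Subgroup G := P ⊓ Subgroup.centralizer (P : Set G)

/-- Schmidt-type `p`-groups (abstract form; abelian groups qualify trivially). -/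
structure IsSch (p : ℕ) (P : Type*) [Group P] : Prop where
  pow_mem : ∀ x : P, x ^ p ∈ Subgroup.center P
  comm_mem : ∀ x y : P, x * y * x⁻¹ * y⁻¹ ∈ Subgroup.center P
  camina : ∀ y : P, y ∉ Subgroup.center P → ∀ z ∈ Subgroup.center P, ∃ x : P, y * x * y⁻¹ * x⁻¹ = z
  aut : ∃ (q : ℕ) (α : MulAut P), q.Prime ∧ q ≠ p ∧ α ^ q = 1 ∧ (∀ z ∈ Subgroup.center P, α z = z) ∧
    ∀ M : Subgroup P, Subgroup.center P ≤ M → (∀ x ∈ M, α x ∈ M) → M = Subgroup.center P ∨ M = ⊤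

/-- the part of `IsSch` that does not mention the automorphism, for a subgroup `P` of `G` -/
structure SchIn (p : ℕ) {G : Type*} [Group G] (P : Subgroup G) : Prop where
  pow_mem : ∀ x ∈ P, x ^ p ∈ ZZ P
  comm_mem : ∀ x ∈ P, ∀ y ∈ P, x * y * x⁻¹ * y⁻¹ ∈ ZZ P
  camina : ∀ y ∈ P, y ∉ ZZ P → ∀ z ∈ ZZ P, ∃ x ∈ P, y * x * y⁻¹ * x⁻¹ = z

/-- an automorphism of prime order `q ≠ p` fixing every proper invariant subgroup pointwise -/
structure HypA (p q : ℕ) (P : Type*) [Group P] (α : MulAut P) : Prop where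
  hq : q.Prime
  hqp : q ≠ p
  pow : α ^ q = 1
  ne : α ≠ 1
  fix : ∀ R : Subgroup P, R ≠ ⊤ → (∀ x ∈ R, α x ∈ R) → ∀ x ∈ R, α x = x

/-- `O_{p,p'}(G)` -/
def LL (p : ℕ) (G : Type*) [Group G] : Subgroup G :=
  (pPrimeCore p (G ⧸ pCore p G)).comap (QuotientGroup.mk' (pCore p G))

/-- the subgroup generated by the `p`-th powers and the commutators of `F` -/
def DD (p : ℕ) {G : Type*} [Group G] (F : Subgroup G) : Subgroup G :=
  Subgroup.closure {g | (∃ y ∈ F, g = y ^ p) ∨ ∃ y ∈ F, ∃ y' ∈ F, g = y * y' * y⁻¹ * y'⁻¹}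

end Cfsg.Agent.Lib.Helper19.Sch
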