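import Cfsg.Agent.Lib.Helper19.Sch.Defs

set_option autoImplicit false
set_option linter.unusedVariables false
set_option linter.unusedSectionVars false

namespace Cfsg.Agent.Lib.Helper19.Sch

open Cfsg

/-! PIECE END (farm Sch, helper19, row S4394); proved by helper69.
The stability group of `1 ≤ Z ≤ F` consists of elements that are `p`-elements modulo `C(F) ≤ F`. -/

theorem END_pow {G : Type*} [Group G] (g f z : G) (h1 : g * f * g⁻¹ = z * f) (h2 : g * z = z * g) (n : ℕ) :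
    g ^ n * f * (g ^ n)⁻¹ = z ^ n * f := by
  induction n with
  | zero => simp
  | succ n ih =>
    have h3 : g * z ^ n = z ^ n * g := (Commute.pow_right (show Commute g z from h2) n).eq
    calc g ^ (n+1) * f * (g ^ (n+1))⁻¹ = g * (g ^ n * f * (g ^ n)⁻¹) * g⁻¹ := by
          rw [pow_succ']; group
      _ = g * (z ^ n * f) * g⁻¹ := by rw [ih]
      _ = (g * z ^ n) * f * g⁻¹ := by group
      _ = z ^ n * (g * f * g⁻¹) := by rw [h3]; group
      _ = z ^ (n+1) * f := by rw [h1, pow_succ]; group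

/-- the stability group of the chain `1 ≤ Z ≤ F` -/
def END_St {G : Type*} [Group G] (Z F : Subgroup G) [F.Normal] : Subgroup G where
  carrier := {g | (∀ z ∈ Z, g * z = z * g) ∧ ∀ f ∈ F, g * f * g⁻¹ * f⁻¹ ∈ Z}
  one_mem' := ⟨by simp, by intro f hf; simp⟩
  mul_mem' := by
    rintro a b ⟨ha1, ha2⟩ ⟨hb1, hb2⟩
    refine ⟨fun z hz => ?_, fun f hf => ?_⟩
    · rw [mul_assoc, hb1 z hz, ← mul_assoc, ha1 z hz, mul_assoc]
    · have e : a * b * f * (a * b)⁻¹ * f⁻¹ = (a * (b * f * b⁻¹ * f⁻¹) * a⁻¹) * (a * f * a⁻¹ * f⁻¹) := by group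
      rw [e, ha1 _ (hb2 f hf), mul_inv_cancel_right]
      exact Z.mul_mem (hb2 f hf) (ha2 f hf)
  inv_mem' := by
    rintro a ⟨ha1, ha2⟩
    refine ⟨fun z hz => ?_, fun f hf => ?_⟩
    · have := ha1 z hz
      calc a⁻¹ * z = a⁻¹ * (z * a) * a⁻¹ := by group
        _ = a⁻¹ * (a * z) * a⁻¹ := by rw [this]
        _ = z * a⁻¹ := by group
    · have hf' : a⁻¹ * f * a ∈ F := by
        have := ‹F.Normal›.conj_mem f hf a⁻¹
        simpa using this
      have := Z.inv_mem (ha2 _ hf')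
      have e : (a * (a⁻¹ * f * a) * a⁻¹ * (a⁻¹ * f * a)⁻¹)⁻¹ = a⁻¹ * f * a⁻¹⁻¹ * f⁻¹ := by group
      rwa [e] at this

theorem END {G : Type*} [Group G] [Finite G] {p : ℕ} [Fact p.Prime] (hc : Subgroup.centralizer (pCore p G : Set G) ≤ pCore p G)
    (hk : Subgroup.centralizer (pPrimeCore p (G ⧸ pCore p G) : Set (G ⧸ pCore p G)) ≤ pPrimeCore p (G ⧸ pCore p G))
    (P : Subgroup G) (hP : IsPGroup p P) (hFP : pCore p G ≤ P) (h : SchIn p P)
    (hL : LL p G ≤ Subgroup.normalizer (ZZ P : Set G)) : P ≤ pCore p G := by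
  have hp : p.Prime := Fact.out
  obtain ⟨a, ha⟩ := hP.exists_card_eq
  -- elements of P are in the stability group
  have hPS : ∀ x ∈ P, x ∈ END_St (ZZ P) (pCore p G) := by
    intro x hx
    refine ⟨fun z hz => ?_, fun f hf => h.comm_mem x hx f (hFP hf)⟩
    exact (Subgroup.mem_centralizer_iff.mp hz.2 x hx)
  -- conjugates by elements normalizing Z too
  have hconj : ∀ k ∈ Subgroup.normalizer (ZZ P : Set G), ∀ x ∈ END_St (ZZ P) (pCore p G),
      k * x * k⁻¹ ∈ END_St (ZZ P) (pCore p G) := by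
    rintro k hk' x ⟨hx1, hx2⟩
    have hkn : ∀ z, z ∈ ZZ P ↔ k * z * k⁻¹ ∈ ZZ P := fun z => Subgroup.mem_normalizer_iff.mp hk' z
    have hkn' : ∀ z ∈ ZZ P, k⁻¹ * z * k ∈ ZZ P := by
      intro z hz
      rw [hkn]
      have e : k * (k⁻¹ * z * k) * k⁻¹ = z := by group
      rwa [e]
    refine ⟨fun z hz => ?_, fun f hf => ?_⟩
    · have := hx1 _ (hkn' z hz)
      calc k * x * k⁻¹ * z = k * (x * (k⁻¹ * z * k)) * k⁻¹ := by group
        _ = k * ((k⁻¹ * z * k) * x) * k⁻¹ := by rw [this]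
        _ = z * (k * x * k⁻¹) := by group
    · have hf' : k⁻¹ * f * k ∈ pCore p G := by
        have := (inferInstance : (pCore p G).Normal).conj_mem f hf k⁻¹
        simpa using this
      have := (hkn _).mp (hx2 _ hf')
      have e : k * (x * (k⁻¹ * f * k) * x⁻¹ * (k⁻¹ * f * k)⁻¹) * k⁻¹ = k * x * k⁻¹ * f * (k * x * k⁻¹)⁻¹ * f⁻¹ := by
        group
      rwa [e] at this
  -- elements of the stability group are p-elements modulo F
  have hpow : ∀ g ∈ END_St (ZZ P) (pCore p G), g ^ (p ^ a) ∈ pCore p G := by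
    rintro g ⟨hg1, hg2⟩
    apply hc
    rw [Subgroup.mem_centralizer_iff]
    intro f hf
    have hz := hg2 f hf
    have h1 : g * f * g⁻¹ = (g * f * g⁻¹ * f⁻¹) * f := by group
    have h3 := END_pow g f _ h1 (hg1 _ hz) (p ^ a)
    have h4 : (g * f * g⁻¹ * f⁻¹) ^ (p ^ a) = 1 := by
      have h5 : (⟨_, hz.1⟩ : P) ^ (p ^ a) = 1 := by rw [← ha]; exact pow_card_eq_one'
      have := congrArg Subtype.val h5
      simpa using this
    rw [h4, one_mul] at h3
    calc f * g ^ (p ^ a) = (g ^ (p ^ a) * f * (g ^ (p ^ a))⁻¹) * g ^ (p ^ a) := by rw [h3]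
      _ = g ^ (p ^ a) * f := by group
  have hcop : (Nat.card (pPrimeCore p (G ⧸ pCore p G))).Coprime p :=
    Cfsg.Agent.Lib.Lead.card_pPrimeCore_coprime p
  -- a p-element of the p'-core is trivial
  have htriv : ∀ y : G ⧸ pCore p G, y ∈ pPrimeCore p (G ⧸ pCore p G) → y ^ (p ^ a) = 1 → y = 1 := by
    intro y hy hy1
    have h1 : orderOf y ∣ p ^ a := orderOf_dvd_of_pow_eq_one hy1
    have h2 : orderOf y ∣ Nat.card (pPrimeCore p (G ⧸ pCore p G)) := by
      have := orderOf_dvd_natCard (⟨y, hy⟩ : pPrimeCore p (G ⧸ pCore p G))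
      rwa [Subgroup.orderOf_mk] at this
    have h3 : orderOf y ∣ 1 := by
      have := Nat.Coprime.pow_right a hcop
      exact (Nat.Coprime.eq_one_of_dvd (Nat.Coprime.coprime_dvd_left h2 this) h1) ▸ dvd_rfl
    exact orderOf_eq_one_iff.mp (Nat.dvd_one.mp h3)
  intro x hx
  have hxc : (QuotientGroup.mk x : G ⧸ pCore p G) ∈
      Subgroup.centralizer (pPrimeCore p (G ⧸ pCore p G) : Set (G ⧸ pCore p G)) := by
    rw [Subgroup.mem_centralizer_iff]
    intro kb hkb
    obtain ⟨k, rfl⟩ := QuotientGroup.mk_surjective kb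
    have hkL : k ∈ LL p G := hkb
    have hw : k * x * k⁻¹ * x⁻¹ ∈ END_St (ZZ P) (pCore p G) :=
      (END_St (ZZ P) (pCore p G)).mul_mem (hconj k (hL hkL) x (hPS x hx))
        ((END_St (ZZ P) (pCore p G)).inv_mem (hPS x hx))
    have hw1 := hpow _ hw
    have hw2 : (QuotientGroup.mk (k * x * k⁻¹ * x⁻¹) : G ⧸ pCore p G) ∈ pPrimeCore p (G ⧸ pCore p G) := by
      have hn : (pPrimeCore p (G ⧸ pCore p G)).Normal := inferInstance
      have h6 := hn.conj_mem _ ((pPrimeCore p (G ⧸ pCore p G)).inv_mem hkb) (QuotientGroup.mk x)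
      have h7 := (pPrimeCore p (G ⧸ pCore p G)).mul_mem hkb h6
      have e : (QuotientGroup.mk (k * x * k⁻¹ * x⁻¹) : G ⧸ pCore p G) =
          (QuotientGroup.mk k) * ((QuotientGroup.mk x) * (QuotientGroup.mk k)⁻¹ * (QuotientGroup.mk x)⁻¹) := by
        simp [mul_assoc]
      rw [e]; exact h7
    have hw3 : (QuotientGroup.mk (k * x * k⁻¹ * x⁻¹) : G ⧸ pCore p G) ^ (p ^ a) = 1 := by
      rw [← QuotientGroup.mk_pow]
      exact (QuotientGroup.eq_one_iff _).mpr hw1
    have hw4 := htriv _ hw2 hw3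
    have e : (QuotientGroup.mk (k * x * k⁻¹ * x⁻¹) : G ⧸ pCore p G) =
        (QuotientGroup.mk k) * (QuotientGroup.mk x) * (QuotientGroup.mk k)⁻¹ * (QuotientGroup.mk x)⁻¹ := by
      simp
    rw [e] at hw4
    calc (QuotientGroup.mk k : G ⧸ pCore p G) * QuotientGroup.mk x
        = ((QuotientGroup.mk k) * (QuotientGroup.mk x) * (QuotientGroup.mk k)⁻¹ * (QuotientGroup.mk x)⁻¹) *
          ((QuotientGroup.mk x) * (QuotientGroup.mk k)) := by group
      _ = QuotientGroup.mk x * QuotientGroup.mk k := by rw [hw4, one_mul]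
  have hx1 := hk hxc
  have hx2 : (QuotientGroup.mk x : G ⧸ pCore p G) ^ (p ^ a) = 1 := by
    rw [← QuotientGroup.mk_pow]
    have h5 : (⟨x, hx⟩ : P) ^ (p ^ a) = 1 := by rw [← ha]; exact pow_card_eq_one'
    have := congrArg Subtype.val h5
    have h6 : x ^ (p ^ a) = 1 := by simpa using this
    rw [h6]; rfl
  exact (QuotientGroup.eq_one_iff _).mp (htriv _ hx1 hx2)

end Cfsg.Agent.Lib.Helper19.Sch
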