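import Cfsg.Agent.Lib.Helper19.Sch.Defs
import Cfsg.Agent.Lib.Helper34.PStable3
import Cfsg.Agent.S1457

set_option autoImplicit false
set_option linter.unusedVariables false
set_option linter.unusedSectionVars false

namespace Cfsg.Agent.Lib.Helper19.Sch

open Cfsg

/-! PIECE G2 (farm Sch, helper19, row S4394).  PROOF SKETCH:
For a ∈ P: Cfsg.Agent.S1457.mem_pCore_of_quadOn (Cfsg.Agent.Lib.Helper34.qStable_of_isPSolvable hp5 hsol) hc ?_ ; QuadOn (pCore p G) a unfolds to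
∀ x ∈ pCore, a * (a*x*a⁻¹*x⁻¹) * a⁻¹ = a*x*a⁻¹*x⁻¹, true because a*x*a⁻¹*x⁻¹ ∈ ZZ P (h.comm_mem, x ∈ P by hFP) commutes with a ∈ P.
-/

theorem G2 {G : Type*} [Group G] [Finite G] {p : ℕ} [Fact p.Prime] (hp5 : 5 ≤ p) (hsol : IsPSolvable p G)
    (hc : Subgroup.centralizer (pCore p G : Set G) ≤ pCore p G) (P : Subgroup G) (hFP : pCore p G ≤ P) (h : SchIn p P) : P ≤ pCore p G := by
  intro a ha
  apply Cfsg.Agent.S1457.mem_pCore_of_quadOn (Cfsg.Agent.Lib.Helper34.qStable_of_isPSolvable hp5 hsol) hc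
  intro x hx
  have h1 := h.comm_mem a ha x (hFP hx)
  have h2 := (Subgroup.mem_centralizer_iff.mp h1.2) a ha
  rw [h2, mul_inv_cancel_right]

end Cfsg.Agent.Lib.Helper19.Sch
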