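import Cfsg.Agent.Lib.Helper19.Sch.Defs

set_option autoImplicit false
set_option linter.unusedVariables false
set_option linter.unusedSectionVars false

namespace Cfsg.Agent.Lib.Helper19.Sch

open Cfsg

theorem GA_mem {G : Type*} [Group G] (P : Subgroup G) (x : P) :
    (x : G) ∈ ZZ P ↔ x ∈ Subgroup.center ↥P := by
  unfold ZZ
  rw [Subgroup.mem_inf, Subgroup.mem_centralizer_iff, Subgroup.mem_center_iff]
  constructor
  · rintro ⟨-, h⟩ g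
    exact Subtype.ext (h g.1 g.2)
  · intro h
    exact ⟨x.2, fun g hg => congrArg Subtype.val (h ⟨g, hg⟩)⟩

theorem GZ {G : Type*} [Group G] (P : Subgroup G) : (ZZ P).subgroupOf P = Subgroup.center ↥P := by
  ext x
  rw [Subgroup.mem_subgroupOf]
  exact GA_mem P x

theorem GA {G : Type*} [Group G] (p : ℕ) (P : Subgroup G) (h : IsSch p ↥P) : SchIn p P := by
  refine ⟨?_, ?_, ?_⟩
  · intro x hx
    exact (GA_mem P (⟨x, hx⟩ ^ p)).2 (h.pow_mem ⟨x, hx⟩)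
  · intro x hx y hy
    exact (GA_mem P (⟨x, hx⟩ * ⟨y, hy⟩ * ⟨x, hx⟩⁻¹ * ⟨y, hy⟩⁻¹)).2 (h.comm_mem ⟨x, hx⟩ ⟨y, hy⟩)
  · intro y hy hyZ z hz
    have hzP : z ∈ P := hz.1
    obtain ⟨x, hx⟩ := h.camina ⟨y, hy⟩ (fun hc => hyZ ((GA_mem P ⟨y, hy⟩).2 hc)) ⟨z, hzP⟩
      ((GA_mem P ⟨z, hzP⟩).1 hz)
    exact ⟨x.1, x.2, congrArg Subtype.val hx⟩

end Cfsg.Agent.Lib.Helper19.Sch
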