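import Cfsg.Agent.Lib.Helper19.Sch.Defs

set_option autoImplicit false
set_option linter.unusedVariables false
set_option linter.unusedSectionVars false

namespace Cfsg.Agent.Lib.Helper19.Sch

open Cfsg

/-! PIECE XE (farm Sch, helper19, row S4394).  PROOF SKETCH:
Transport of structure along e (center maps to center: Subgroup.center is characteristic / direct elementwise proof; α' := e.symm.trans (α.trans e), i.e. MulAut.congr e α).
-/

theorem XE_center {P Q : Type*} [Group P] [Group Q] (e : P ≃* Q) (x : P) :
    e x ∈ Subgroup.center Q ↔ x ∈ Subgroup.center P := by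
  rw [Subgroup.mem_center_iff, Subgroup.mem_center_iff]
  constructor
  · intro h g
    apply e.injective
    rw [map_mul, map_mul]
    exact h (e g)
  · intro h g
    obtain ⟨g', rfl⟩ := e.surjective g
    rw [← map_mul, ← map_mul, h g']

theorem XE_center' {P Q : Type*} [Group P] [Group Q] (e : P ≃* Q) (y : Q) :
    e.symm y ∈ Subgroup.center P ↔ y ∈ Subgroup.center Q := by
  rw [← XE_center e, e.apply_symm_apply]

theorem XE {p : ℕ} {P Q : Type*} [Group P] [Group Q] (e : P ≃* Q) (h : IsSch p P) : IsSch p Q := by
  refine ⟨?_, ?_, ?_, ?_⟩
  · intro x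
    rw [← XE_center' e, map_pow]
    exact h.pow_mem _
  · intro x y
    rw [← XE_center' e]
    simpa using h.comm_mem (e.symm x) (e.symm y)
  · intro y hy z hz
    obtain ⟨x, hx⟩ := h.camina (e.symm y) (by rwa [XE_center' e]) (e.symm z) (by rwa [XE_center' e])
    refine ⟨e x, ?_⟩
    have := congrArg e hx
    simpa using this
  · obtain ⟨q, α, hq, hqp, hpow, hfix, hM⟩ := h.aut
    refine ⟨q, MulAut.congr e α, hq, hqp, ?_, ?_, ?_⟩
    · rw [← map_pow, hpow, map_one]
    · intro z hz
      have h1 := hfix (e.symm z) (by rwa [XE_center' e])
      show e (α (e.symm z)) = z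
      rw [h1, e.apply_symm_apply]
    · intro M hZM hMα
      have h1 := hM (M.comap e.toMonoidHom) ?_ ?_
      · rcases h1 with h1 | h1
        · left
          ext y
          have : e.symm y ∈ M.comap e.toMonoidHom ↔ e.symm y ∈ Subgroup.center P := by rw [h1]
          rw [XE_center' e] at this
          rw [← this]
          simp [Subgroup.mem_comap]
        · right
          ext y
          have : e.symm y ∈ M.comap e.toMonoidHom ↔ e.symm y ∈ (⊤ : Subgroup P) := by rw [h1]
          simp [Subgroup.mem_comap] at this
          simp [this]
      · intro x hx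
        rw [Subgroup.mem_comap]
        exact hZM ((XE_center e x).2 hx)
      · intro x hx
        rw [Subgroup.mem_comap] at hx ⊢
        have h2 := hMα (e x) hx
        have h3 : (MulAut.congr e α) (e x) = e (α x) := by
          show e (α (e.symm (e x))) = e (α x)
          rw [e.symm_apply_apply]
        rw [h3] at h2
        exact h2

end Cfsg.Agent.Lib.Helper19.Sch
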