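import Cfsg.Agent.Lib.Helper19.Sch.Defs
import Cfsg.Agent.Lib.Helper19.Sch.XE

set_option autoImplicit false
set_option linter.unusedVariables false
set_option linter.unusedSectionVars false

namespace Cfsg.Agent.Lib.Helper19.Sch

open Cfsg

/-! PIECE T1 (farm Sch, helper19, row S4394).  PROOF SKETCH:
N := pPrimeCore p G, f := mk' N.  P' := Q.map f is a Sylow p-subgroup of G ⧸ N.
f restricted to Q is injective (Q ⊓ N = ⊥: coprime orders), so ↥Q ≃* ↥(Q.map f);  XE.
-/

theorem T1 {G : Type*} [Group G] [Finite G] {p : ℕ} [Fact p.Prime] (Q : Sylow p G) (h : IsSch p ↥(Q : Subgroup G)) :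
    ∃ P' : Sylow p (G ⧸ pPrimeCore p G), IsSch p ↥(P' : Subgroup (G ⧸ pPrimeCore p G)) := by
  have hp : p.Prime := Fact.out
  set N := pPrimeCore p G with hN
  set f := QuotientGroup.mk' N with hf
  have hsurj : Function.Surjective f := QuotientGroup.mk'_surjective N
  refine ⟨Q.mapSurjective hsurj, ?_⟩
  -- the restriction of f to Q
  set g : ↥(Q : Subgroup G) →* (G ⧸ N) := f.comp (Q : Subgroup G).subtype with hg
  have hcop : (Nat.card ↥(Q : Subgroup G)).Coprime (Nat.card ↥N) := by
    obtain ⟨n, hn⟩ := IsPGroup.iff_card.mp Q.isPGroup'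
    rw [hn]
    exact Nat.Coprime.pow_left _ (Cfsg.Agent.Lib.Lead.card_pPrimeCore_coprime p).symm
  have hdisj : (Q : Subgroup G) ⊓ N = ⊥ := (Subgroup.disjoint_of_coprime_natCard hcop).eq_bot
  have hinj : Function.Injective g := by
    rw [injective_iff_map_eq_one]
    intro x hx
    have hxN : (x : G) ∈ N := by
      have : f (x : G) = 1 := hx
      rwa [hf, QuotientGroup.mk'_apply, QuotientGroup.eq_one_iff] at this
    have : (x : G) ∈ (Q : Subgroup G) ⊓ N := ⟨x.2, hxN⟩
    rw [hdisj, Subgroup.mem_bot] at this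
    exact Subtype.ext this
  have hrange : g.range = ((Q.mapSurjective hsurj : Sylow p (G ⧸ N)) : Subgroup (G ⧸ N)) := by
    rw [Sylow.coe_mapSurjective, hg, MonoidHom.range_comp, Subgroup.range_subtype]
  exact XE ((MonoidHom.ofInjective hinj).trans (MulEquiv.subgroupCongr hrange)) h

end Cfsg.Agent.Lib.Helper19.Sch
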