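import Cfsg.Agent.Lib.Helper19.Sch.Defs
import Cfsg.Agent.Lib.Helper63.PLength

set_option autoImplicit false
set_option linter.unusedVariables false
set_option linter.unusedSectionVars false

namespace Cfsg.Agent.Lib.Helper19.Sch

open Cfsg

/-! PIECE T3 (farm Sch, helper19, row S4394).  PROOF SKETCH:
T3: S := pCore p H is normal, a p-group, contains the Sylow P so index coprime to p.  Helper63.PLengthLE.extension hp S (a := 1) (b := 0) (pLengthLE_one_of_isPGroup ..) (pLengthLE_zero_of_coprime ..).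
T4: Helper63.PLengthLE.extension hp (pPrimeCore p G) (a := 0) (b := 1) (pLengthLE_zero_of_coprime (Lead.card_pPrimeCore_coprime p)) h.
-/

theorem T3 {H : Type*} [Group H] [Finite H] {p : ℕ} [Fact p.Prime] (P : Sylow p H) (hP : (P : Subgroup H) ≤ pCore p H) :
    PLengthLE p 1 H := by
  have hp : p.Prime := Fact.out
  have h1 : PLengthLE p 1 ↥(pCore p H) :=
    Cfsg.Agent.Lib.Helper63.pLengthLE_one_of_isPGroup hp (Cfsg.Agent.Lib.Lead.pCore_isPGroup p H)
  have h2 : PLengthLE p 0 (H ⧸ pCore p H) := by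
    apply Cfsg.Agent.Lib.Helper63.pLengthLE_zero_of_coprime
    have h3 : (pCore p H).index ∣ (P : Subgroup H).index := Subgroup.index_dvd_of_le hP
    have h4 : ¬ p ∣ (P : Subgroup H).index := P.not_dvd_index
    rw [← Subgroup.index_eq_card]
    exact (Nat.Coprime.symm ((Nat.Prime.coprime_iff_not_dvd hp).mpr fun h => h4 (h.trans h3)))
  exact Cfsg.Agent.Lib.Helper63.PLengthLE.extension hp (pCore p H) h1 h2

theorem T4 {G : Type*} [Group G] [Finite G] {p : ℕ} [Fact p.Prime] (h : PLengthLE p 1 (G ⧸ pPrimeCore p G)) :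
    PLengthLE p 1 G := by
  have hp : p.Prime := Fact.out
  have h1 : PLengthLE p 0 ↥(pPrimeCore p G) :=
    Cfsg.Agent.Lib.Helper63.pLengthLE_zero_of_coprime (Cfsg.Agent.Lib.Lead.card_pPrimeCore_coprime p)
  have := Cfsg.Agent.Lib.Helper63.PLengthLE.extension hp (pPrimeCore p G) h1 h
  simpa using this

end Cfsg.Agent.Lib.Helper19.Sch
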