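import Cfsg.Agent.Lib.Helper19.Sch.Defs

set_option autoImplicit false
set_option linter.unusedVariables false
set_option linter.unusedSectionVars false

namespace Cfsg.Agent.Lib.Helper19.Sch

open Cfsg

/-! PIECE XC1 (farm Sch, helper19, row S4394).  PROOF SKETCH:
E := the closure.  E is α-invariant: α (α x * x⁻¹) = α (α x) * (α x)⁻¹ (closure_induction).  If E ≠ ⊤ then h.fix: every u = α x * x⁻¹ is fixed by α.
Then α x = u * x and by induction (α^n) x = u^n * x.  n = q: u^q = 1.  u is a p-element (hP) and q ≠ p is prime, so u = 1, i.e. α x = x for all x: α = 1, contradiction with h.ne.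
-/

theorem XC1 {p q : ℕ} [Fact p.Prime] {P : Type*} [Group P] [Finite P] (hP : IsPGroup p P) {α : MulAut P} (h : HypA p q P α) :
    Subgroup.closure {g : P | ∃ x, g = α x * x⁻¹} = ⊤ := by
  by_contra hE
  set E := Subgroup.closure {g : P | ∃ x, g = α x * x⁻¹} with hEdef
  have hinv : ∀ x ∈ E, α x ∈ E := by
    intro x hx
    induction hx using Subgroup.closure_induction with
    | mem g hg =>
      obtain ⟨x, rfl⟩ := hg
      apply Subgroup.subset_closure
      exact ⟨α x, by simp⟩
    | one => simp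
    | mul a b _ _ ha hb => rw [map_mul]; exact E.mul_mem ha hb
    | inv a _ ha => rw [map_inv]; exact E.inv_mem ha
  have hfix := h.fix E hE hinv
  apply h.ne
  ext x
  have hu : α (α x * x⁻¹) = α x * x⁻¹ := hfix _ (Subgroup.subset_closure ⟨x, rfl⟩)
  obtain ⟨u, hudef⟩ : ∃ u, u = α x * x⁻¹ := ⟨_, rfl⟩
  rw [← hudef] at hu
  have hx : α x = u * x := by rw [hudef]; group
  have hpow : ∀ n : ℕ, (α ^ n) x = u ^ n * x := by
    intro n
    induction n with
    | zero => simp
    | succ n ih =>
      rw [pow_succ', MulAut.mul_apply, ih, map_mul, map_pow, hu, hx, pow_succ, mul_assoc]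
  have h1 := hpow q
  rw [h.pow, MulAut.one_apply] at h1
  have h2 : u ^ q = 1 := by
    have : u ^ q * x = 1 * x := by rw [← h1, one_mul]
    exact mul_right_cancel this
  obtain ⟨k, hk⟩ := hP u
  have h3 : orderOf u ∣ q := orderOf_dvd_of_pow_eq_one h2
  have h4 : orderOf u ∣ p ^ k := orderOf_dvd_of_pow_eq_one hk
  have hcop : Nat.Coprime q (p ^ k) :=
    Nat.Coprime.pow_right _ ((Nat.coprime_primes h.hq Fact.out).mpr h.hqp)
  have h5 : orderOf u = 1 := Nat.eq_one_of_dvd_coprimes hcop h3 h4
  have h6 : u = 1 := orderOf_eq_one_iff.mp h5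
  rw [hx, h6, one_mul, MulAut.one_apply]

end Cfsg.Agent.Lib.Helper19.Sch
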