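import Cfsg.Agent.Lib.Helper19.Sch.Defs

set_option autoImplicit false
set_option linter.unusedVariables false
set_option linter.unusedSectionVars false

namespace Cfsg.Agent.Lib.Helper19.Sch

open Cfsg

/-! PIECE XC3 (farm Sch, helper19, row S4394; proof by helper39).
A := closure ({x^p} ∪ {commutators}) is α-invariant (α maps generators to generators).  A ≠ ⊤: P is a nontrivial (α ≠ 1)
finite p-group, so it has a normal subgroup M of index p; P ⧸ M has order p, is cyclic, so M contains all x^p and all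
commutators: A ≤ M ≠ ⊤.  Apply h.fix.
-/

theorem XC3_exists_index {p : ℕ} [Fact p.Prime] {P : Type*} [Group P] [Finite P] (hP : IsPGroup p P)
    [Nontrivial P] : ∃ M : Subgroup P, M.Normal ∧ M.index = p := by
  classical
  obtain ⟨n, hn⟩ := IsPGroup.iff_card.mp hP
  have hn0 : n ≠ 0 := by
    rintro rfl
    have h1 : Nat.card P = 1 := by simpa using hn
    have h2 := Finite.one_lt_card (α := P)
    omega
  obtain ⟨m, rfl⟩ := Nat.exists_eq_succ_of_ne_zero hn0
  obtain ⟨M, hM⟩ := Sylow.exists_subgroup_card_pow_prime p (G := P) (n := m)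
    (by rw [hn]; exact pow_dvd_pow _ (Nat.le_succ _))
  have hidx : M.index = p := by
    have h3 := M.card_mul_index
    rw [hM, hn, pow_succ] at h3
    exact Nat.eq_of_mul_eq_mul_left (pow_pos (Fact.out : p.Prime).pos _) h3
  refine ⟨M, Subgroup.normal_of_index_eq_minFac_card ?_, hidx⟩
  rw [hidx, hn, Nat.Prime.pow_minFac Fact.out (Nat.succ_ne_zero _)]

theorem XC3 {p q : ℕ} [Fact p.Prime] {P : Type*} [Group P] [Finite P] (hP : IsPGroup p P) {α : MulAut P} (h : HypA p q P α) :
    (∀ x : P, α (x ^ p) = x ^ p) ∧ ∀ x y : P, α (x * y * x⁻¹ * y⁻¹) = x * y * x⁻¹ * y⁻¹ := by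
  classical
  haveI hne : Nontrivial P := by
    by_contra hcon
    rw [not_nontrivial_iff_subsingleton] at hcon
    exact h.ne (by ext x; exact Subsingleton.elim _ _)
  obtain ⟨M, hMn, hidx⟩ := XC3_exists_index (p := p) hP
  have hcard : Nat.card (P ⧸ M) = p := hidx
  haveI : IsCyclic (P ⧸ M) := isCyclic_of_prime_card hcard
  letI : CommGroup (P ⧸ M) := IsCyclic.commGroup
  set S : Set P := {g : P | (∃ x : P, g = x ^ p) ∨ ∃ x y : P, g = x * y * x⁻¹ * y⁻¹} with hS
  have hSM : Subgroup.closure S ≤ M := by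
    rw [Subgroup.closure_le]
    rintro g (⟨x, rfl⟩ | ⟨x, y, rfl⟩)
    · show x ^ p ∈ M
      rw [← QuotientGroup.eq_one_iff, QuotientGroup.mk_pow, ← hcard]
      exact pow_card_eq_one'
    · show x * y * x⁻¹ * y⁻¹ ∈ M
      rw [← QuotientGroup.eq_one_iff]
      have : ((x * y * x⁻¹ * y⁻¹ : P) : P ⧸ M) = (x : P ⧸ M) * y * (x : P ⧸ M)⁻¹ * (y : P ⧸ M)⁻¹ := rfl
      rw [this, mul_comm (x : P ⧸ M) y]
      group
  have hMtop : M ≠ ⊤ := by
    intro hM
    rw [hM, Subgroup.index_top] at hidx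
    exact (Fact.out : p.Prime).one_lt.ne hidx
  have hAtop : Subgroup.closure S ≠ ⊤ := by
    intro hA
    exact hMtop (top_le_iff.mp (hA ▸ hSM))
  have hinv : ∀ x ∈ Subgroup.closure S, α x ∈ Subgroup.closure S := by
    intro x hx
    induction hx using Subgroup.closure_induction with
    | mem g hg =>
      apply Subgroup.subset_closure
      rcases hg with ⟨x, rfl⟩ | ⟨x, y, rfl⟩
      · exact Or.inl ⟨α x, by simp⟩
      · exact Or.inr ⟨α x, α y, by simp⟩
    | one => simp
    | mul a b _ _ ha hb => rw [map_mul]; exact mul_mem ha hb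
    | inv a _ ha => rw [map_inv]; exact inv_mem ha
  have hfix := h.fix _ hAtop hinv
  exact ⟨fun x => hfix _ (Subgroup.subset_closure (Or.inl ⟨x, rfl⟩)),
    fun x y => hfix _ (Subgroup.subset_closure (Or.inr ⟨x, y, rfl⟩))⟩

end Cfsg.Agent.Lib.Helper19.Sch
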