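import Cfsg.Agent.Lib.Helper19.Sch.Defs
import Cfsg.Agent.Lib.Helper19.Sch.XC1
import Cfsg.Agent.Lib.Helper19.Sch.XC3

set_option autoImplicit false
set_option linter.unusedVariables false
set_option linter.unusedSectionVars false

namespace Cfsg.Agent.Lib.Helper19.Sch

open Cfsg

/-! PIECE XC2 (farm Sch, helper19, row S4394).  PROOF SKETCH:
By XC3 α fixes x*c*x⁻¹*c⁻¹, and α of it is (α x)*c*(α x)⁻¹*c⁻¹; hence (α x) c (α x)⁻¹ = x c x⁻¹, i.e. x⁻¹ * α x commutes with c, equivalently (conjugating) ... choose the side that fits: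
apply the same to x⁻¹ if needed so that α x * x⁻¹ ∈ centralizer {c}.  So the generating set of XC1 lies in Subgroup.centralizer {c}; closure = ⊤ ≤ centralizer {c}.
-/

theorem XC2 {p q : ℕ} [Fact p.Prime] {P : Type*} [Group P] [Finite P] (hP : IsPGroup p P) {α : MulAut P} (h : HypA p q P α) (c : P) (hc : α c = c) :
    c ∈ Subgroup.center P := by
  have h1 : (⊤ : Subgroup P) ≤ Subgroup.centralizer {c} := by
    rw [← XC1 hP h, Subgroup.closure_le]
    rintro g ⟨x, rfl⟩
    have h2 := (XC3 hP h).2 x⁻¹ c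
    simp only [map_mul, map_inv, hc, inv_inv] at h2
    -- (α x)⁻¹ * c * α x * c⁻¹ = x⁻¹ * c * x * c⁻¹
    have h3 : (α x)⁻¹ * c * α x = x⁻¹ * c * x := mul_right_cancel h2
    show α x * x⁻¹ ∈ Subgroup.centralizer {c}
    rw [Subgroup.mem_centralizer_singleton_iff]
    calc α x * x⁻¹ * c = α x * (x⁻¹ * c * x) * x⁻¹ := by group
      _ = α x * ((α x)⁻¹ * c * α x) * x⁻¹ := by rw [h3]
      _ = c * (α x * x⁻¹) := by group
  rw [Subgroup.mem_center_iff]
  intro g
  have := Subgroup.mem_centralizer_singleton_iff.mp (h1 (Subgroup.mem_top g))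
  exact this

end Cfsg.Agent.Lib.Helper19.Sch
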