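import Cfsg.Agent.Lib.Helper19.Sch.Defs
import Cfsg.Agent.Lib.Helper19.Sch.XC1

set_option autoImplicit false
set_option linter.unusedVariables false
set_option linter.unusedSectionVars false

namespace Cfsg.Agent.Lib.Helper19.Sch

open Cfsg

/-! PIECE XC4 (farm Sch, helper19, row S4394; proof by helper39).
ν : P →* Abelianization P, ν x = ∏_{i < q} mk ((α^i) x) (a hom because the target is commutative).  ν (α x) = ν x
(shift i -> i+1, α^q = 1), so ν (α x * x⁻¹) = 1, so ν = 1 on the closure = ⊤ (XC1).  For c fixed: ν c = (mk c)^q = 1;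
mk c is a p-element, q ≠ p prime, so mk c = 1: c ∈ commutator P.
-/

/-- the norm map of `α` into the abelianization -/
noncomputable def XC4_nu {P : Type*} [Group P] (α : MulAut P) (q : ℕ) : P →* Abelianization P where
  toFun x := ∏ i ∈ Finset.range q, Abelianization.of ((α ^ i) x)
  map_one' := by simp
  map_mul' x y := by simp [Finset.prod_mul_distrib]

theorem XC4_nu_apply {P : Type*} [Group P] (α : MulAut P) (q : ℕ) (x : P) :
    XC4_nu α q x = ∏ i ∈ Finset.range q, Abelianization.of ((α ^ i) x) := rfl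

theorem XC4_nu_shift {P : Type*} [Group P] (α : MulAut P) (q : ℕ) (hq : α ^ q = 1) (x : P) :
    XC4_nu α q (α x) = XC4_nu α q x := by
  rw [XC4_nu_apply, XC4_nu_apply]
  have h1 : ∀ i : ℕ, (α ^ i) (α x) = (α ^ (i + 1)) x := by
    intro i
    rw [pow_succ]; rfl
  simp_rw [h1]
  have h2 := Finset.prod_range_succ' (fun i => Abelianization.of ((α ^ i) x)) q
  have h3 := Finset.prod_range_succ (fun i => Abelianization.of ((α ^ i) x)) q
  rw [h3] at h2
  simp only [hq, pow_zero] at h2
  exact (mul_right_cancel h2).symm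

theorem XC4 {p q : ℕ} [Fact p.Prime] {P : Type*} [Group P] [Finite P] (hP : IsPGroup p P) {α : MulAut P} (h : HypA p q P α) (c : P) (hc : α c = c) :
    c ∈ commutator P := by
  classical
  have hker : (XC4_nu α q).ker = ⊤ := by
    rw [eq_top_iff, ← XC1 hP h, Subgroup.closure_le]
    rintro g ⟨x, rfl⟩
    show α x * x⁻¹ ∈ (XC4_nu α q).ker
    rw [MonoidHom.mem_ker, map_mul, map_inv, XC4_nu_shift α q h.pow, mul_inv_cancel]
  have hc1 : XC4_nu α q c = 1 := by
    rw [← MonoidHom.mem_ker, hker]; trivial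
  have hci : ∀ i : ℕ, (α ^ i) c = c := by
    intro i
    induction i with
    | zero => simp
    | succ n ih => rw [pow_succ]; show (α ^ n) (α c) = c; rw [hc, ih]
  rw [XC4_nu_apply] at hc1
  simp only [hci, Finset.prod_const, Finset.card_range] at hc1
  obtain ⟨k, hk⟩ := hP c
  have hk' : (Abelianization.of c) ^ (p ^ k) = 1 := by rw [← map_pow, hk, map_one]
  have hcop : Nat.Coprime q (p ^ k) :=
    Nat.Coprime.pow_right k ((Nat.coprime_primes h.hq Fact.out).mpr h.hqp)
  have hord : orderOf (Abelianization.of c) ∣ 1 := by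
    rw [← Nat.Coprime.gcd_eq_one hcop]
    exact Nat.dvd_gcd (orderOf_dvd_of_pow_eq_one hc1) (orderOf_dvd_of_pow_eq_one hk')
  have h1 : Abelianization.of c = 1 := orderOf_eq_one_iff.mp (Nat.dvd_one.mp hord)
  rw [← Abelianization.ker_of, MonoidHom.mem_ker]
  exact h1

end Cfsg.Agent.Lib.Helper19.Sch
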