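import Cfsg.Agent.Lib.Helper19.Sch.Defs
import Cfsg.Agent.Lib.Helper19.Sch.XC2
import Cfsg.Agent.Lib.Helper19.Sch.XC4

set_option autoImplicit false
set_option linter.unusedVariables false
set_option linter.unusedSectionVars false

namespace Cfsg.Agent.Lib.Helper19.Sch

open Cfsg

/-! PIECE XC6 (farm Sch, helper19, row S4394), formalised by helper70. -/

theorem XC6_mulr {P : Type*} [Group P] (hcen : ∀ x y : P, x * y * x⁻¹ * y⁻¹ ∈ Subgroup.center P)
    (u x x' : P) : u * (x * x') * u⁻¹ * (x * x')⁻¹ = (u * x * u⁻¹ * x⁻¹) * (u * x' * u⁻¹ * x'⁻¹) := by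
  have h1 := Subgroup.mem_center_iff.1 (hcen u x') x⁻¹
  calc u * (x * x') * u⁻¹ * (x * x')⁻¹ = u * x * u⁻¹ * ((u * x' * u⁻¹ * x'⁻¹) * x⁻¹) := by group
    _ = u * x * u⁻¹ * (x⁻¹ * (u * x' * u⁻¹ * x'⁻¹)) := by rw [h1]
    _ = _ := by group

theorem XC6_mull {P : Type*} [Group P] (hcen : ∀ x y : P, x * y * x⁻¹ * y⁻¹ ∈ Subgroup.center P)
    (u u' x : P) : (u * u') * x * (u * u')⁻¹ * x⁻¹ = (u' * x * u'⁻¹ * x⁻¹) * (u * x * u⁻¹ * x⁻¹) := by
  have h1 := Subgroup.mem_center_iff.1 (hcen u' x) u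
  calc (u * u') * x * (u * u')⁻¹ * x⁻¹ = (u * (u' * x * u'⁻¹ * x⁻¹)) * x * u⁻¹ * x⁻¹ := by group
    _ = ((u' * x * u'⁻¹ * x⁻¹) * u) * x * u⁻¹ * x⁻¹ := by rw [h1]
    _ = _ := by group

theorem XC6 {p q : ℕ} [Fact p.Prime] {P : Type*} [Group P] [Finite P] (hP : IsPGroup p P) {α : MulAut P} (h : HypA p q P α) (y : P) (hy : y ∉ Subgroup.center P)
    (z : P) (hz : z ∈ Subgroup.center P) : ∃ x : P, y * x * y⁻¹ * x⁻¹ = z := by
  have hfixc : ∀ x y : P, α (x * y * x⁻¹ * y⁻¹) = x * y * x⁻¹ * y⁻¹ := (XC3 hP h).2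
  have hcen : ∀ x y : P, x * y * x⁻¹ * y⁻¹ ∈ Subgroup.center P := fun x y =>
    XC2 hP h _ (hfixc x y)
  let f : P →* P := MonoidHom.mk' (fun x => y * x * y⁻¹ * x⁻¹) (fun a b => XC6_mulr hcen y a b)
  let R : Subgroup P :=
    { carrier := {u | ∀ x, u * x * u⁻¹ * x⁻¹ ∈ f.range}
      one_mem' := by
        intro x
        have : (1 : P) * x * 1⁻¹ * x⁻¹ = 1 := by group
        rw [this]; exact Subgroup.one_mem _
      mul_mem' := by
        intro a b ha hb x
        rw [XC6_mull hcen]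
        exact Subgroup.mul_mem _ (hb x) (ha x)
      inv_mem' := by
        intro a ha x
        have h1 := XC6_mull hcen a a⁻¹ x
        have h2 : (a * a⁻¹) * x * (a * a⁻¹)⁻¹ * x⁻¹ = 1 := by group
        rw [h2] at h1
        have h3 : a⁻¹ * x * a⁻¹⁻¹ * x⁻¹ = (a * x * a⁻¹ * x⁻¹)⁻¹ := eq_inv_of_mul_eq_one_left h1.symm
        show a⁻¹ * x * a⁻¹⁻¹ * x⁻¹ ∈ f.range
        rw [h3]
        exact Subgroup.inv_mem _ (ha x) }
  have hyR : y ∈ R := fun x => ⟨x, rfl⟩
  have hRinv : ∀ u ∈ R, α u ∈ R := by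
    intro u hu x
    have h1 := hfixc u (α.symm x)
    simp only [map_mul, map_inv, MulEquiv.apply_symm_apply] at h1
    rw [h1]
    exact hu _
  have hRtop : R = ⊤ := by
    by_contra hne
    exact hy (XC2 hP h y (h.fix R hne hRinv y hyR))
  have hcomm : commutator P ≤ f.range := by
    rw [commutator_def, Subgroup.commutator_le]
    intro a _ b _
    rw [commutatorElement_def]
    have : a ∈ R := by rw [hRtop]; exact Subgroup.mem_top a
    exact this b
  have hzfix : α z = z := by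
    refine h.fix (Subgroup.center P) ?_ ?_ z hz
    · intro htop
      apply hy
      rw [htop]; exact Subgroup.mem_top y
    · intro x hx
      rw [Subgroup.mem_center_iff] at hx ⊢
      intro g
      have := congrArg α (hx (α.symm g))
      simpa using this
  obtain ⟨x, hx⟩ := hcomm (XC4 hP h z hzfix)
  exact ⟨x, hx⟩

end Cfsg.Agent.Lib.Helper19.Sch
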