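import Cfsg.Agent.Lib.Helper19.Sch.XB
import Cfsg.Agent.Lib.Helper19.Sch.XC6
import Cfsg.Agent.Lib.Helper19.Sch.XE
import Cfsg.Agent.Lib.Helper19.Sch.GA
import Cfsg.Agent.Lib.Helper19.Sch.G2
import Cfsg.Agent.Lib.Helper19.Sch.END
import Cfsg.Agent.Lib.Helper19.Sch.A2
import Cfsg.Agent.Lib.Helper19.Sch.B1
import Cfsg.Agent.Lib.Helper19.Sch.B2
import Cfsg.Agent.Lib.Helper19.Sch.B3
import Cfsg.Agent.Lib.Helper19.Sch.T1
import Cfsg.Agent.Lib.Helper19.Sch.T3
import Cfsg.Agent.Lib.Helper76.PSolvable
import Cfsg.Agent.Lib.Helper48.PSolvDual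
import Cfsg.Agent.Lib.Helper69.PSolv

set_option autoImplicit false
set_option linter.unusedVariables false
set_option linter.unusedSectionVars false

namespace Cfsg.Agent.Lib.Helper19.Sch

open Cfsg

/-- an abelian group is of Schmidt type -/
theorem isSch_of_center_top (p : ℕ) [hp : Fact p.Prime] {P : Type*} [Group P]
    (h : Subgroup.center P = ⊤) : IsSch p P := by
  refine ⟨fun x => by rw [h]; trivial, fun x y => by rw [h]; trivial,
    fun y hy => absurd (by rw [h]; trivial) hy, ?_⟩
  obtain ⟨q, hq1, hq2⟩ := Nat.exists_infinite_primes (p + 1)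
  refine ⟨q, 1, hq2, by omega, one_pow _, fun z _ => rfl, fun M hM _ => Or.inr ?_⟩
  rw [h] at hM
  exact top_le_iff.mp hM

/-- [XC7] the automorphism hypothesis gives the Schmidt type -/
theorem XC7 {p q : ℕ} [Fact p.Prime] {P : Type*} [Group P] [Finite P] (hP : IsPGroup p P)
    {α : MulAut P} (h : HypA p q P α) : IsSch p P := by
  by_cases hc : Subgroup.center P = ⊤
  · exact isSch_of_center_top p hc
  have hinv : ∀ x ∈ Subgroup.center P, α x ∈ Subgroup.center P := by
    intro x hx
    rw [Subgroup.mem_center_iff] at hx ⊢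
    intro g
    have := congrArg α (hx (α⁻¹ g))
    simpa using this
  have hfix : ∀ z ∈ Subgroup.center P, α z = z := h.fix _ hc hinv
  refine ⟨fun x => XC2 hP h _ ((XC3 hP h).1 x), fun x y => XC2 hP h _ ((XC3 hP h).2 x y),
    fun y hy z hz => XC6 hP h y hy z hz, q, α, h.hq, h.hqp, h.pow, hfix, ?_⟩
  intro M hM hMα
  by_cases hMt : M = ⊤
  · exact Or.inr hMt
  · left
    apply le_antisymm _ hM
    intro x hx
    exact XC2 hP h x (h.fix M hMt hMα x hx)

/-- the core statement -/
theorem main {G : Type*} [Group G] [Finite G] {p : ℕ} [hp : Fact p.Prime] (hsol : IsPSolvable p G)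
    (hcore : pPrimeCore p G = ⊥) (P : Sylow p G) (h : IsSch p ↥(P : Subgroup G)) :
    (P : Subgroup G) ≤ pCore p G := by
  have hc : Subgroup.centralizer (pCore p G : Set G) ≤ pCore p G :=
    Cfsg.Agent.Lib.Helper76.centralizer_pCore_le hsol hcore
  have hk : Subgroup.centralizer (pPrimeCore p (G ⧸ pCore p G) : Set (G ⧸ pCore p G))
      ≤ pPrimeCore p (G ⧸ pCore p G) :=
    Cfsg.Agent.Lib.Helper48.centralizer_pPrimeCore_le
      (Cfsg.Agent.Lib.Helper69.isPSolvable_of_surj (QuotientGroup.mk' _)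
        (QuotientGroup.mk'_surjective _) hsol) (Cfsg.Agent.Lib.Lead.pCore_quotient_pCore p G)
  have hFP : pCore p G ≤ (P : Subgroup G) := Cfsg.Agent.Lib.Lead.pCore_le_sylow P
  have hin : SchIn p (P : Subgroup G) := GA p _ h
  have hPp : IsPGroup p (P : Subgroup G) := P.2
  by_contra hne
  -- `p ≤ 3`
  have hp5 : ¬ 5 ≤ p := fun h5 => hne (G2 h5 hsol hc _ hFP hin)
  -- the index is a power of `p`
  obtain ⟨k, hk'⟩ : ∃ k, (pCore p G).relIndex (P : Subgroup G) = p ^ k := by
    have h1 : IsPGroup p (P : Subgroup G) := hPp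
    obtain ⟨n, hn⟩ := IsPGroup.iff_card.mp h1
    have h2 : (pCore p G).relIndex (P : Subgroup G) ∣ p ^ n := by
      rw [← hn]
      exact Subgroup.index_dvd_card _
    exact (Nat.dvd_prime_pow hp.out).mp h2 |>.imp fun _ h => h.2
  have hk0 : k ≠ 0 := by
    rintro rfl
    rw [pow_zero, Subgroup.relIndex_eq_one] at hk'
    exact hne hk'
  by_cases hk2 : 2 ≤ k
  · apply hne
    apply END hc hk _ hPp hFP hin
    apply A2 hc _ hPp hFP hin
    rw [hk']
    exact Nat.pow_le_pow_right hp.out.pos hk2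
  have hk1 : k = 1 := by omega
  rw [hk1, pow_one] at hk'
  have hZF : ZZ (P : Subgroup G) ≤ pCore p G := by
    intro z hz
    apply hc
    rw [Subgroup.mem_centralizer_iff]
    intro f hf
    exact (Subgroup.mem_centralizer_iff.mp hz.2) f (hFP hf)
  have hD : DD p (pCore p G) ≠ ZZ (P : Subgroup G) := by
    intro hD
    apply hne
    apply END hc hk _ hPp hFP hin
    have : (ZZ (P : Subgroup G)).Normal := hD ▸ B0 p (pCore p G)
    rw [Subgroup.normalizer_eq_top]
    exact le_top
  have hidx := B1 (P : Subgroup G) (pCore p G) hPp hFP hin hZF hk' hD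
  have hidx' : (Subgroup.center ↥(P : Subgroup G)).index = p ^ 2 := by
    rw [← GZ]
    exact hidx
  have hp23 : p = 2 ∨ p = 3 := by
    have h2 := hp.out.two_le
    have h4 : p ≠ 4 := by
      rintro rfl
      exact absurd hp.out (by norm_num)
    omega
  rcases hp23 with rfl | rfl
  · have hDZ := B0' 2 (P : Subgroup G) (pCore 2 G) hFP hin
    have := B2 h (by rw [hidx']; norm_num) ((pCore 2 G).subgroupOf (P : Subgroup G))
      ((DD 2 (pCore 2 G)).subgroupOf (P : Subgroup G))
      (by rw [← GZ]; exact Subgroup.subgroupOf_mono _ hZF |>.trans le_rfl)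
      (by
        rw [← GZ]
        intro he
        have h1 : (pCore 2 G).relIndex (P : Subgroup G) = (ZZ (P : Subgroup G)).relIndex (P : Subgroup G) := by
          unfold Subgroup.relIndex
          rw [he]
        rw [hk', hidx] at h1
        norm_num at h1)
      (by rw [← GZ]; exact Subgroup.subgroupOf_mono _ hDZ |>.trans le_rfl)
      (by
        intro y hy
        rw [Subgroup.mem_subgroupOf] at hy ⊢
        apply Subgroup.subset_closure
        left
        exact ⟨_, hy, by simp⟩)
    rw [← GZ] at this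
    apply hD
    have h1 := (Subgroup.subgroupOf_inj).mp this
    have hZP : ZZ (P : Subgroup G) ≤ (P : Subgroup G) := inf_le_left
    rw [inf_eq_left.mpr (hDZ.trans hZP), inf_eq_left.mpr hZP] at h1
    exact h1
  · exact B3 h (by rw [hidx']; norm_num)

end Cfsg.Agent.Lib.Helper19.Sch
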