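import Cfsg.Agent.Lib.Helper19.Sch.Defs
import Cfsg.Agent.S0536
import Cfsg.Agent.Lib.Helper9.Schmidt

set_option autoImplicit false
set_option linter.unusedVariables false
set_option linter.unusedSectionVars false

namespace Cfsg.Agent.Lib.Helper19.Sch

open Cfsg

/-! PIECE XA (farm Sch, helper19, row S4394), formalised by helper70. -/

theorem XA_nil {X : Type*} [Group X] (A B : Subgroup X) (hA : Group.IsNilpotent A)
    (hB : Group.IsNilpotent B) (hc : ∀ a ∈ A, ∀ b ∈ B, a * b = b * a) (hAB : A ⊔ B = ⊤) :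
    Group.IsNilpotent X := by
  have hcomm : ∀ (m : A) (n : B), Commute (A.subtype m) (B.subtype n) := fun a b => hc a a.2 b b.2
  have hf : Function.Surjective (MonoidHom.noncommCoprod A.subtype B.subtype hcomm) := by
    rw [← MonoidHom.range_eq_top, MonoidHom.noncommCoprod_range]
    simpa using hAB
  exact Group.nilpotent_of_surjective _ hf

theorem XA_key {X : Type*} [Group X] (P C R D : Subgroup X) (hPC : Disjoint P C) (hR : R ≤ P)
    (hD : D ≤ C) (hN : D ≤ Subgroup.normalizer (R : Set X)) (htop : R ⊔ D = ⊤) :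
    R = P ∧ D = C := by
  have hRn : R.Normal := by
    rw [← Subgroup.normalizer_eq_top_iff]
    exact top_le_iff.1 (htop ▸ sup_le Subgroup.le_normalizer hN)
  have hmem : ∀ x : X, ∃ r ∈ R, ∃ d ∈ D, r * d = x := by
    intro x
    have : x ∈ R ⊔ D := htop ▸ Subgroup.mem_top x
    exact Subgroup.mem_sup_of_normal_left.1 this
  have hdis : ∀ x, x ∈ P → x ∈ C → x = 1 := fun x h1 h2 =>
    Subgroup.disjoint_def.1 hPC h1 h2
  constructor
  · refine le_antisymm hR fun x hx => ?_
    obtain ⟨r, hr, d, hd, rfl⟩ := hmem x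
    have h1 : d ∈ P := by
      have := P.mul_mem (P.inv_mem (hR hr)) hx
      simpa using this
    rw [hdis d h1 (hD hd), mul_one]
    exact hr
  · refine le_antisymm hD fun x hx => ?_
    obtain ⟨r, hr, d, hd, rfl⟩ := hmem x
    have h1 : r ∈ C := by
      have := C.mul_mem hx (C.inv_mem (hD hd))
      simpa using this
    rw [hdis r (hR hr) h1, one_mul]
    exact hd

theorem XA_comm {X : Type*} [Group X] [Finite X] (p q : ℕ) [Fact p.Prime] [Fact q.Prime]
    (hpq : p ≠ q) (hX : Cfsg.IsMinimalNonNilpotent X) (P C R D : Subgroup X)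
    (hP : IsPGroup p P) (hC : IsPGroup q C) (hR : R ≤ P)
    (hD : D ≤ C) (hN : D ≤ Subgroup.normalizer (R : Set X)) (hne : R ≠ P ∨ D ≠ C) :
    ∀ a ∈ R, ∀ b ∈ D, a * b = b * a := by
  have hPC : Disjoint P C := IsPGroup.disjoint_of_ne p q hpq _ _ hP hC
  have htop : R ⊔ D ≠ ⊤ := by
    intro h
    obtain ⟨h1, h2⟩ := XA_key P C R D hPC hR hD hN h
    rcases hne with h | h
    · exact h h1
    · exact h h2
  exact Helper9.commute_of_nilpotent_of_pgroups hpq (hX.2 _ htop) le_sup_left le_sup_right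
    (hP.to_le hR) (hC.to_le hD)

theorem XA {X : Type*} [Group X] [Finite X] (p : ℕ) [Fact p.Prime] (hX : Cfsg.IsMinimalNonNilpotent X)
    (P : Sylow p X) (hPn : (P : Subgroup X).Normal) (hP1 : (P : Subgroup X) ≠ ⊥) :
    ∃ (q : ℕ) (y : X), q.Prime ∧ q ≠ p ∧ y ^ q ∈ Subgroup.centralizer ((P : Subgroup X) : Set X) ∧
      y ∉ Subgroup.centralizer ((P : Subgroup X) : Set X) ∧
      ∀ R : Subgroup X, R ≤ P → R ≠ P → (∀ x ∈ R, y * x * y⁻¹ ∈ R) →
        y ∈ Subgroup.centralizer (R : Set X) := by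
  obtain ⟨q, p', hq, hp', hqp, C, Q, hCc, hQn, hCQ⟩ := Cfsg.Agent.S0536.result hX
  have : Fact q.Prime := ⟨hq⟩
  have : Fact p'.Prime := ⟨hp'⟩
  have hp : p.Prime := Fact.out
  have hdisCQ : Disjoint (C : Subgroup X) (Q : Subgroup X) :=
    IsPGroup.disjoint_of_ne q p' hqp _ _ C.isPGroup' Q.isPGroup'
  -- the order of X
  have hcard : Nat.card (C : Subgroup X) * Nat.card (Q : Subgroup X) = Nat.card X := by
    apply Subgroup.IsComplement'.card_mul_card
    apply Subgroup.isComplement'_of_disjoint_and_mul_eq_univ hdisCQ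
    rw [← Subgroup.mul_normal, hCQ]; rfl
  have hpp' : p = p' := by
    by_contra hne
    obtain ⟨a, ha⟩ := (IsPGroup.iff_card).1 C.isPGroup'
    obtain ⟨b, hb⟩ := (IsPGroup.iff_card).1 Q.isPGroup'
    obtain ⟨c, hc⟩ := (IsPGroup.iff_card).1 P.isPGroup'
    have hc0 : c ≠ 0 := by
      rintro rfl
      rw [pow_zero, Subgroup.card_eq_one] at hc
      exact hP1 hc
    have h1 : p ∣ Nat.card X := by
      refine Dvd.dvd.trans ?_ (Subgroup.card_subgroup_dvd_card (P : Subgroup X))
      rw [hc]; exact dvd_pow_self p hc0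
    rw [← hcard, ha, hb] at h1
    rcases (Nat.Prime.dvd_mul hp).1 h1 with h | h
    · have h2 : p = q := (Nat.prime_dvd_prime_iff_eq hp hq).1 (hp.dvd_of_dvd_pow h)
      subst h2
      obtain ⟨g, hg⟩ := MulAction.exists_smul_eq X P C
      rw [Sylow.smul_eq_of_normal] at hg
      subst hg
      refine hX.1 (XA_nil (P : Subgroup X) (Q : Subgroup X) P.isPGroup'.isNilpotent
        Q.isPGroup'.isNilpotent ?_ hCQ)
      intro a ha b hb
      exact (Subgroup.commute_of_normal_of_disjoint _ _ hPn hQn hdisCQ a b ha hb).eq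
    · exact hne ((Nat.prime_dvd_prime_iff_eq hp hp').1 (hp.dvd_of_dvd_pow h))
  subst hpp'
  have hQP : Q = P := by
    obtain ⟨g, hg⟩ := MulAction.exists_smul_eq X P Q
    rw [Sylow.smul_eq_of_normal] at hg
    exact hg.symm
  subst hQP
  obtain ⟨g, hg⟩ := hCc.exists_generator
  have hCy : (C : Subgroup X) = Subgroup.zpowers (g : X) := by
    apply le_antisymm
    · intro c hc
      obtain ⟨k, hk⟩ := Subgroup.mem_zpowers_iff.1 (hg ⟨c, hc⟩)
      refine Subgroup.mem_zpowers_iff.2 ⟨k, ?_⟩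
      have := congrArg Subtype.val hk
      simpa using this
    · rw [Subgroup.zpowers_le]; exact g.2
  set y : X := (g : X) with hy
  have hyC : y ∉ Subgroup.centralizer ((Q : Subgroup X) : Set X) := by
    intro hyc
    refine hX.1 (XA_nil (C : Subgroup X) (Q : Subgroup X) C.isPGroup'.isNilpotent
        Q.isPGroup'.isNilpotent ?_ hCQ)
    intro a ha b hb
    have h1 : Subgroup.zpowers y ≤ Subgroup.centralizer ((Q : Subgroup X) : Set X) := by
      rw [Subgroup.zpowers_le]; exact hyc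
    rw [hCy] at ha
    exact (Subgroup.mem_centralizer_iff.1 (h1 ha) b hb).symm
  have hy1 : y ≠ 1 := by
    intro h
    apply hyC
    rw [h]; exact Subgroup.one_mem _
  have hqy : q ∣ orderOf y := by
    obtain ⟨k, hk⟩ := C.isPGroup' g
    have h1 : y ^ (q ^ k) = 1 := by
      have := congrArg Subtype.val hk
      simpa using this
    obtain ⟨j, hj, hj'⟩ := (Nat.dvd_prime_pow hq).1 (orderOf_dvd_of_pow_eq_one h1)
    rw [hj']
    apply dvd_pow_self
    rintro rfl
    rw [pow_zero, orderOf_eq_one_iff] at hj'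
    exact hy1 hj'
  have hynot : y ∉ Subgroup.zpowers (y ^ q) := by
    intro h
    obtain ⟨k, hk⟩ := Subgroup.mem_zpowers_iff.1 h
    have h1 : y ^ ((q : ℤ) * k - 1) = 1 := by
      rw [zpow_sub, zpow_mul, zpow_natCast, hk, zpow_one, mul_inv_cancel]
    have h2 : (orderOf y : ℤ) ∣ (q : ℤ) * k - 1 := orderOf_dvd_iff_zpow_eq_one.2 h1
    have h3 : (q : ℤ) ∣ (q : ℤ) * k - 1 := (Int.natCast_dvd_natCast.2 hqy).trans h2
    have h4 : (q : ℤ) ∣ 1 := by
      have := (dvd_sub_right (Dvd.intro k rfl : (q : ℤ) ∣ (q : ℤ) * k)).1 h3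
      exact this
    have h5 : q ∣ 1 := by exact_mod_cast h4
    exact hq.one_lt.ne' (Nat.dvd_one.1 h5)
  refine ⟨q, y, hq, hqp, ?_, hyC, ?_⟩
  · have hD : Subgroup.zpowers (y ^ q) ≤ (C : Subgroup X) := by
      rw [Subgroup.zpowers_le, hCy]
      exact Subgroup.pow_mem _ (Subgroup.mem_zpowers y) q
    have := XA_comm p q hqp.symm hX (Q : Subgroup X) (C : Subgroup X) (Q : Subgroup X)
      (Subgroup.zpowers (y ^ q)) Q.isPGroup' C.isPGroup' le_rfl hD
      (by rw [Subgroup.normalizer_eq_top_iff.2 hPn]; exact le_top)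
      (Or.inr (by
        intro h
        apply hynot
        rw [h, hCy]; exact Subgroup.mem_zpowers y))
    rw [Subgroup.mem_centralizer_iff]
    intro h hh
    exact this h hh _ (Subgroup.mem_zpowers _)
  · intro R hR hRne hyR
    have hN : (C : Subgroup X) ≤ Subgroup.normalizer (R : Set X) := by
      rw [hCy, Subgroup.zpowers_le]
      exact Subgroup.mem_normalizer_fintype hyR
    have := XA_comm p q hqp.symm hX (Q : Subgroup X) (C : Subgroup X) R
      (C : Subgroup X) Q.isPGroup' C.isPGroup' hR le_rfl hN (Or.inl hRne)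
    rw [Subgroup.mem_centralizer_iff]
    intro h hh
    exact this h hh _ g.2

end Cfsg.Agent.Lib.Helper19.Sch
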