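import Cfsg.Agent.Lib.Helper19.Sch.Defs
import Cfsg.Agent.Lib.Helper19.Sch.XA

set_option autoImplicit false
set_option linter.unusedVariables false
set_option linter.unusedSectionVars false

namespace Cfsg.Agent.Lib.Helper19.Sch

open Cfsg

/-! PIECE XB (farm Sch, helper19, row S4394), formalised by helper70. -/

theorem XB {X : Type*} [Group X] [Finite X] (p : ℕ) [Fact p.Prime] (hX : Cfsg.IsMinimalNonNilpotent X)
    (P : Sylow p X) (hPn : (P : Subgroup X).Normal) (hP1 : (P : Subgroup X) ≠ ⊥) :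
    ∃ (q : ℕ) (α : MulAut ↥(P : Subgroup X)), HypA p q ↥(P : Subgroup X) α := by
  obtain ⟨q, y, hq, hqp, hyq, hy, hR⟩ := XA p hX P hPn hP1
  refine ⟨q, MulAut.conjNormal y, hq, hqp, ?_, ?_, ?_⟩
  · rw [← map_pow]
    ext x
    rw [MulAut.conjNormal_apply, MulAut.one_apply]
    have := Subgroup.mem_centralizer_iff.1 hyq x x.2
    rw [← this, mul_inv_cancel_right]
  · intro h
    apply hy
    rw [Subgroup.mem_centralizer_iff]
    intro x hx
    have h1 := congrArg (fun f => ((f ⟨x, hx⟩ : (P : Subgroup X)) : X)) h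
    simp only [MulAut.conjNormal_apply, MulAut.one_apply] at h1
    rw [mul_inv_eq_iff_eq_mul] at h1
    exact h1.symm
  · intro R hRne hinv x hx
    have h1 : R.map (P : Subgroup X).subtype ≤ P := by
      rintro _ ⟨a, _, rfl⟩
      exact a.2
    have h2 : R.map (P : Subgroup X).subtype ≠ P := by
      intro h
      apply hRne
      rw [eq_top_iff]
      intro a _
      have : (a : X) ∈ R.map (P : Subgroup X).subtype := by rw [h]; exact a.2
      obtain ⟨b, hb, hb'⟩ := this
      have : b = a := Subtype.ext hb'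
      rw [← this]; exact hb
    have h3 : ∀ x ∈ R.map (P : Subgroup X).subtype, y * x * y⁻¹ ∈ R.map (P : Subgroup X).subtype := by
      rintro _ ⟨a, ha, rfl⟩
      exact ⟨MulAut.conjNormal y a, hinv a ha, by simp [MulAut.conjNormal_apply]⟩
    have h4 := hR _ h1 h2 h3
    have h5 := Subgroup.mem_centralizer_iff.1 h4 (x : X) ⟨x, hx, rfl⟩
    ext
    rw [MulAut.conjNormal_apply, ← h5, mul_inv_cancel_right]

end Cfsg.Agent.Lib.Helper19.Sch
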